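import Cfsg.Agent.Lib.FischerTriple.ParityQuad

/-!
In type M(24) some homomorphism to the group of order two is odd on every member: the parity of the centraliser
of a triple extends to the centraliser of a pair, of a member, and to the group.
-/

set_option autoImplicit false

namespace CfsgLib.FischerTriple

open Subgroup
open CfsgLib.ThreeTrans (link mul_self inv_eq conj_self_of_commute)
open CfsgLib.FischerType
open CfsgLib.FischerM24 (C2 odd)

variable {G : Type*} [Group G] [Finite G] {D : Set G}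

/-- A parity of the neighbourhood of a member of a set extends to the group the set generates. -/
theorem extend_parity (hset : Cfsg.IsThreeTranspositionSet D) {W : Set G} (hW : W ⊆ D)
    (hclosed : ∀ k ∈ closure W, ∀ s ∈ W, k * s * k⁻¹ ∈ W)
    (htrans : ∀ s ∈ W, ∀ t ∈ W, ∃ k ∈ closure W, k * s * k⁻¹ = t) {v : G} (hv : v ∈ W)
    (hcen : ∀ g ∈ closure W, Commute g v → g ∈ closure (insert v (link W v))) {T : Subgroup G}
    (hT : insert v (link W v) ⊆ T) (χ : ↥T →* C2) (hχ : ∀ s : ↥T, (s : G) ∈ W → χ s = odd) :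
    ∃ φ : ↥(closure W) →* C2, ∀ s : ↥(closure W), (s : G) ∈ W → φ s = odd := by
  set W' : Set ↥(closure W) := {x | (x : G) ∈ W}
  set v' : ↥(closure W) := ⟨v, subset_closure hv⟩
  have hc : Cfsg.IsThreeTranspositionClass W' := by
    refine ⟨⟨fun x hx => ?_, fun x hx y hy => ?_⟩, ⟨v', hv, Set.ext fun x => ⟨fun hx => ?_, fun hx => ?_⟩⟩, ?_⟩
    · rw [← Subgroup.orderOf_coe]; exact hset.1 _ (hW hx)
    · exact (hset.2 _ (hW hx) _ (hW hy)).imp (fun h => Subtype.ext (by simpa using h))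
        fun h => Subtype.ext (by simpa using h)
    · obtain ⟨k, hk, e⟩ := htrans v hv x hx
      exact isConj_iff.2 ⟨⟨k, hk⟩, Subtype.ext e⟩
    · obtain ⟨k, rfl⟩ := isConj_iff.1 hx
      exact hclosed k k.2 v hv
    · refine map_injective (closure W).subtype_injective ?_
      rw [MonoidHom.map_closure, ← MonoidHom.range_eq_map, Subgroup.range_subtype]
      exact congrArg Subgroup.closure (Set.ext fun s => ⟨by rintro ⟨x, hx, rfl⟩; exact hx,
        fun hs => ⟨⟨s, subset_closure hs⟩, hs, rfl⟩⟩)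
  have himg : (closure W).subtype '' insert v' (link W' v') = insert v (link W v) := by
    ext s
    constructor
    · rintro ⟨x, hx | ⟨h1, h2, h3⟩, rfl⟩
      · exact Or.inl (congrArg Subtype.val hx)
      · exact Or.inr ⟨h1, fun e => h2 (Subtype.ext e), congrArg Subtype.val h3.eq⟩
    · rintro (hs | ⟨h1, h2, h3⟩)
      · exact ⟨v', Or.inl rfl, hs.symm⟩
      · exact ⟨⟨s, subset_closure h1⟩, Or.inr ⟨h1, fun e => h2 (congrArg Subtype.val e), Subtype.ext h3.eq⟩, rfl⟩
  have hmap : (CfsgLib.FischerCent.nbhd W' v').map (closure W).subtype = closure (insert v (link W v)) := by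
    rw [CfsgLib.FischerCent.nbhd, MonoidHom.map_closure, himg]
  have hle : ∀ x : ↥(CfsgLib.FischerCent.nbhd W' v'), (closure W).subtype x ∈ T := fun x =>
    (closure_le T).2 hT (hmap ▸ ⟨x, x.2, rfl⟩)
  let ψ : ↥(CfsgLib.FischerCent.nbhd W' v') →* C2 :=
    χ.comp (((closure W).subtype.comp (CfsgLib.FischerCent.nbhd W' v').subtype).codRestrict T hle)
  refine CfsgLib.FischerM24.exists_parity hc (d := v') hv ?_ ψ (fun x hx => hχ _ hx)
  intro g hg
  have h1 : (g : G) ∈ (CfsgLib.FischerCent.nbhd W' v').map (closure W).subtype :=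
    hmap.symm ▸ hcen g g.2 (congrArg Subtype.val (mem_centralizer_singleton_iff.1 hg))
  obtain ⟨g', hg', e⟩ := h1
  exact (Subtype.ext e : g' = g) ▸ hg'

/-- Some homomorphism to the group of order two is odd on every member. -/
theorem M24Data.exists_parity {d : G} (h : M24Data D d) : ∃ φ : G →* C2, ∀ x ∈ D, φ x = odd := by
  have hset := h.S.cls.1
  have hn := h.S.noCentral h.mem (pair_of_typeM23_img h.hX)
  obtain ⟨d', hd', hpair', -, -⟩ := CfsgLib.FischerCent.imgData_of_typeM23 h.SX h.hX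
  obtain ⟨r', hr', -⟩ := hpair'
  obtain ⟨u, hu, rfl⟩ := exists_toImg hd'
  obtain ⟨v, hv, rfl⟩ := exists_toImg hr'.1
  have hvu : v ∈ link D u := ⟨hv.1, fun e => hr'.2.1 (by subst e; rfl), commute_of_toImg hset hu hv hr'.2.2⟩
  have hT : Tri D d u v := ⟨h.mem, hu, hv, hvu⟩
  -- the centraliser of the triple
  obtain ⟨ψ, hψ⟩ := h.exists_char hT
  obtain ⟨hquad, -⟩ := h.quad
  obtain ⟨-, ndM, nuM, nvM⟩ := h.tri hT
  obtain ⟨-, hC3⟩ := h.C3_eq hT
  obtain ⟨hdC, huC, hvC⟩ := mem_C3_self hT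
  -- the centraliser of the pair
  set W := link D d ∩ link D u with hW
  have hWcomm : ∀ g ∈ closure W, Commute g d ∧ Commute g u := fun g hg =>
    ⟨mem_centralizer_singleton_iff.1 ((closure_le _).2
        (fun s hs => mem_centralizer_singleton_iff.2 hs.1.2.2.eq.symm) hg),
      mem_centralizer_singleton_iff.1 ((closure_le _).2
        (fun s hs => mem_centralizer_singleton_iff.2 hs.2.2.2.eq.symm) hg)⟩
  have hWmove : ∀ (g : G), Commute g d → Commute g u → ∀ s ∈ W, g * s * g⁻¹ ∈ W := by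
    intro g g1 g2 s hs
    have l1 := link_conj_mem h.S.cls g hs.1
    have l2 := link_conj_mem h.S.cls g hs.2
    rw [conj_self_of_commute g1] at l1
    rw [conj_self_of_commute g2] at l2
    exact ⟨l1, l2⟩
  have hC3W : C3 d u v ≤ closure (insert v (link W v)) := by
    rw [hC3]
    exact closure_mono fun s hs => Or.inr ⟨hs.1, hs.2.2.1, hs.2.2.2⟩
  have hC3W' : C3 d u v ≤ closure W := by
    rw [hC3]
    exact closure_mono fun s hs => hs.1
  have hpairC : ∀ g, Commute g d → Commute g u → g ∈ closure W := by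
    intro g g1 g2
    have hgH : g ∈ closure (link D d) := h.cen ▸ mem_centralizer_singleton_iff.2 g1.eq
    have hq : (QuotientGroup.mk (⟨g, hgH⟩ : ↥(closure (link D d))) : Quot D d) ∈
        closure (link (img D d) (toImg D d hu)) := by
      rw [← CfsgLib.FischerCent.centralizer_eq_of_typeM23 h.SX h.hX (toImg_mem hu)]
      refine mem_centralizer_singleton_iff.2 ?_
      exact ((show Commute (⟨g, hgH⟩ : ↥(closure (link D d))) ⟨u, subset_closure hu⟩ from
        Subtype.ext g2.eq).map (QuotientGroup.mk' _)).eq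
    have hle : closure (link (img D d) (toImg D d hu)) ≤
        ((closure W).subgroupOf (closure (link D d))).map (QuotientGroup.mk' _) := by
      refine (closure_le _).2 fun s hs => ?_
      obtain ⟨w, hw, rfl⟩ := exists_toImg hs.1
      exact ⟨⟨w, subset_closure hw⟩, mem_subgroupOf.2 (subset_closure
        ⟨hw, hw.1, fun e => hs.2.1 (by subst e; rfl), commute_of_toImg hset hu hw hs.2.2⟩), rfl⟩
    obtain ⟨k, hk, e⟩ := hle hq
    have hc : k⁻¹ * ⟨g, hgH⟩ ∈ center ↥(closure (link D d)) := QuotientGroup.eq.1 e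
    rcases CfsgLib.FischerUnique.center_link_le h.S h.lines h.mem hu hc with e | e
    · rw [← show (k : G) = g from inv_mul_eq_one.1 e]; exact hk
    · rw [show g = (k : G) * d from inv_mul_eq_iff_eq_mul.1 e]; exact mul_mem hk (hC3W' hdC)
  have hvW : v ∈ W := ⟨hv, hvu⟩
  obtain ⟨φ₂, hφ₂⟩ := extend_parity (D := D) hset (W := W) (fun s hs => hs.1.1)
    (fun k hk s hs => hWmove k (hWcomm k hk).1 (hWcomm k hk).2 s hs)
    (fun s hs t ht => by
      obtain ⟨g, g1, g2, g3⟩ := h.S.exists_conj_triple h.mem (pair_of_typeM23_img h.hX) h.SX h.mem hu hs.1 hs.2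
        h.mem hu ht.1 ht.2
      exact ⟨g, hpairC g (mul_inv_eq_iff_eq_mul.1 g1) (mul_inv_eq_iff_eq_mul.1 g2), g3⟩)
    hvW (fun g hg hgv => hC3W (mem_C3.2 ⟨(hWcomm g hg).1, (hWcomm g hg).2, hgv⟩))
    (T := C3 d u v) (by
      rintro s (rfl | hs)
      · exact hvC
      · exact mem_C3.2 ⟨hs.1.1.2.2.symm, hs.1.2.2.2.symm, hs.2.2.symm⟩) ψ
    (fun s hs => by
      refine (hψ s).2 ?_
      by_cases e : (s : G) = v
      · rw [e]; exact nvM
      · exact hquad _ _ _ _ hT ⟨hs, hs.1.1, e, (mem_C3.1 s.2).2.2.symm⟩)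
  have hagree : ∀ (g : G) (hg : g ∈ C3 d u v), φ₂ ⟨g, hC3W' hg⟩ = ψ ⟨g, hg⟩ := by
    intro g hg
    have hcl : g ∈ closure (link D d ∩ link D u ∩ link D v) := hC3 ▸ hg
    refine closure_induction (p := fun x _ => ∀ hx : x ∈ C3 d u v, φ₂ ⟨x, hC3W' hx⟩ = ψ ⟨x, hx⟩)
      (fun s hs hx => ?_) (fun hx => ?_) (fun x y hx' hy' ihx ihy hx => ?_) (fun x hx' ihx hx => ?_) hcl hg
    · rw [hφ₂ _ hs.1, (hψ ⟨s, hx⟩).2 (hquad _ _ _ _ hT hs)]
    · exact (map_one φ₂).trans (map_one ψ).symm
    · have mx : x ∈ C3 d u v := hC3 ▸ hx'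
      have my : y ∈ C3 d u v := hC3 ▸ hy'
      exact (map_mul φ₂ ⟨x, hC3W' mx⟩ ⟨y, hC3W' my⟩).trans
        ((congrArg₂ (· * ·) (ihx mx) (ihy my)).trans (map_mul ψ ⟨x, mx⟩ ⟨y, my⟩).symm)
    · have mx : x ∈ C3 d u v := hC3 ▸ hx'
      exact (map_inv φ₂ ⟨x, hC3W' mx⟩).trans ((congrArg (·⁻¹) (ihx mx)).trans (map_inv ψ ⟨x, mx⟩).symm)
  have hφd : φ₂ ⟨d, hC3W' hdC⟩ = odd := (hagree d hdC).trans ((hψ _).2 ndM)
  have hφu : φ₂ ⟨u, hC3W' huC⟩ = odd := (hagree u huC).trans ((hψ _).2 nuM)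
  -- the centraliser of the member
  have hHd : ∀ g ∈ closure (link D d), Commute g d := fun g hg =>
    mem_centralizer_singleton_iff.1 (CfsgLib.FischerUnique.closure_link_le_centralizer hg)
  obtain ⟨φ₁, hφ₁⟩ := extend_parity (D := D) hset (W := link D d) (fun s hs => hs.1)
    (fun k hk s hs => by
      have := link_conj_mem h.S.cls k hs
      rwa [conj_self_of_commute (hHd k hk)] at this)
    (fun s hs t ht => h.S.exists_conj_link h.mem hs ht) hu
    (fun g hg hgu => closure_mono (show W ⊆ insert u (link (link D d) u) from fun s hs =>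
      Or.inr ⟨hs.1, hs.2.2.1, hs.2.2.2⟩) (hpairC g (hHd g hg) hgu))
    (T := closure W) (by
      rintro s (rfl | hs)
      · exact hC3W' huC
      · exact subset_closure ⟨hs.1, hs.1.1, hs.2⟩) φ₂
    (fun s hs => by
      by_cases e : (s : G) = u
      · rw [show s = ⟨u, hC3W' huC⟩ from Subtype.ext e]; exact hφu
      · exact hφ₂ s ⟨hs, hs.1, e, (hWcomm s s.2).2.symm⟩)
  have hdH : d ∈ closure (link D d) := h.cen ▸ mem_centralizer_singleton_iff.2 rfl
  have hWH : closure W ≤ closure (link D d) := closure_mono fun s hs => hs.1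
  have hφ₁d : φ₁ ⟨d, hdH⟩ = odd := by
    rw [← hφd]
    have e : φ₁.comp (Subgroup.inclusion hWH) = φ₂ := by
      refine MonoidHom.eq_of_eqOn_dense (s := {x : ↥(closure W) | (x : G) ∈ W}) ?_ fun x hx => ?_
      · refine map_injective (closure W).subtype_injective ?_
        rw [MonoidHom.map_closure, ← MonoidHom.range_eq_map, Subgroup.range_subtype]
        exact congrArg Subgroup.closure (Set.ext fun s => ⟨by rintro ⟨x, hx, rfl⟩; exact hx,
          fun hs => ⟨⟨s, subset_closure hs⟩, hs, rfl⟩⟩)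
      · exact (hφ₁ _ (show (x : G) ∈ link D d from hx.1)).trans (hφ₂ x hx).symm
    exact DFunLike.congr_fun e ⟨d, hC3W' hdC⟩
  -- the group
  have hnb : CfsgLib.FischerCent.nbhd D d ≤ closure (link D d) := (closure_le _).2 (by
    rintro s (rfl | hs)
    · exact hdH
    · exact subset_closure hs)
  refine CfsgLib.FischerM24.exists_parity h.S.cls h.mem ?_ (φ₁.comp (Subgroup.inclusion hnb)) fun x hx => ?_
  · rw [h.cen]
    exact closure_mono fun s hs => Or.inr hs
  · by_cases e : (x : G) = d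
    · show φ₁ _ = odd
      rw [show Subgroup.inclusion hnb x = ⟨d, hdH⟩ from Subtype.ext e]
      exact hφ₁d
    · exact hφ₁ _ ⟨hx, e, (hHd _ (hnb x.2)).symm⟩

/-- No member lies in the derived group. -/
theorem M24Data.not_mem_commutator {d : G} (h : M24Data D d) : ∀ x ∈ D, x ∉ _root_.commutator G := by
  obtain ⟨φ, hφ⟩ := h.exists_parity
  intro x hx hxc
  have h1 : φ x = 1 := MonoidHom.mem_ker.1 (Abelianization.commutator_subset_ker φ hxc)
  rw [hφ x hx] at h1
  exact absurd h1 (by decide)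

/-- The data exist in type M(24). -/
theorem exists_m24Data (S : Setting D) (h : Cfsg.IsOfTypeM24 G D) {d₀ : G} (hd₀ : d₀ ∈ D)
    (h3 : Cfsg.pCore 3 ↥(closure (link D d₀)) ≤ center ↥(closure (link D d₀)))
    (h2 : Cfsg.pCore 2 ↥(closure (link D d₀)) ≤ center ↥(closure (link D d₀))) : ∃ d, M24Data D d := by
  obtain ⟨d, hd, SX, hX⟩ := S.quotSetting_of_typeM24 h hd₀ h3 h2
  exact ⟨d, S, (S.good_of_typeM24 h hd₀ h3 h2).lines, hd, SX, hX,
    CfsgLib.FischerCent.centralizer_eq_of_typeM24 S h hd₀ h3 h2 hd⟩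

/-- In type M(24) some homomorphism to the group of order two is odd on every member. -/
theorem exists_parity_of_typeM24 (S : Setting D) (h : Cfsg.IsOfTypeM24 G D) {d₀ : G} (hd₀ : d₀ ∈ D)
    (h3 : Cfsg.pCore 3 ↥(closure (link D d₀)) ≤ center ↥(closure (link D d₀)))
    (h2 : Cfsg.pCore 2 ↥(closure (link D d₀)) ≤ center ↥(closure (link D d₀))) :
    ∃ φ : G →* C2, ∀ x ∈ D, φ x = odd :=
  (exists_m24Data S h hd₀ h3 h2).elim fun _ hd => hd.exists_parity

/-- In type M(24) no member lies in the derived group. -/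
theorem not_mem_commutator_of_typeM24 (S : Setting D) (h : Cfsg.IsOfTypeM24 G D) {d₀ : G} (hd₀ : d₀ ∈ D)
    (h3 : Cfsg.pCore 3 ↥(closure (link D d₀)) ≤ center ↥(closure (link D d₀)))
    (h2 : Cfsg.pCore 2 ↥(closure (link D d₀)) ≤ center ↥(closure (link D d₀))) :
    ∀ x ∈ D, x ∉ _root_.commutator G :=
  (exists_m24Data S h hd₀ h3 h2).elim fun _ hd => hd.not_mem_commutator

end CfsgLib.FischerTriple
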