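import Cfsg.Agent.Lib.FischerTriple.Core
import Cfsg.Agent.Lib.FischerType.Factor
import Cfsg.Agent.Lib.AutPSU.Bridge
import Cfsg.Agent.Lib.Components.AutQuotient

set_option autoImplicit false

/-!
The centraliser, in the derived group, of the product of three pairwise commuting members in type M(24).
-/

namespace CfsgLib.FischerTriple

open Subgroup
open CfsgLib.ThreeTrans (link mul_self inv_eq conj_self_of_commute commute_conj_iff')
open CfsgLib.FischerType

variable {G : Type*} [Group G]

theorem prod_perm {a b c x y z : G} (cab : Commute a b) (cac : Commute a c) (cbc : Commute b c)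
    (hx : x = a ∨ x = b ∨ x = c) (hy : y = a ∨ y = b ∨ y = c) (hz : z = a ∨ z = b ∨ z = c)
    (hxy : x ≠ y) (hxz : x ≠ z) (hyz : y ≠ z) : x * y * z = a * b * c := by
  have e1 : a * c * b = a * b * c := by rw [mul_assoc, ← cbc.eq, ← mul_assoc]
  have e2 : b * a * c = a * b * c := by rw [cab.eq]
  have e3 : b * c * a = a * b * c := by rw [mul_assoc, ← cac.eq, ← mul_assoc, e2]
  have e4 : c * a * b = a * b * c := by rw [← cac.eq, e1]
  have e5 : c * b * a = a * b * c := by rw [← cbc.eq, e3]
  rcases hx with rfl | rfl | rfl <;> rcases hy with rfl | rfl | rfl <;> rcases hz with rfl | rfl | rfl <;>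
    first
    | exact absurd rfl hxy
    | exact absurd rfl hxz
    | exact absurd rfl hyz
    | rfl
    | assumption

variable [Finite G] {D : Set G}

/-- Every element lies in the derived group or its product with a member does. -/
theorem mem_or_mul_mem (hc : Cfsg.IsThreeTranspositionClass D) {c : G} (hcD : c ∈ D) (g : G) :
    g ∈ _root_.commutator G ∨ g * c ∈ _root_.commutator G := by
  obtain ⟨hset, -, hgen⟩ := CfsgLib.ThreeTransp.class_to_group hc
  have h2 : c * c = 1 := mul_self hset hcD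
  have hconj : ∀ {x}, x ∈ _root_.commutator G → c * x * c ∈ _root_.commutator G := fun {x} hx => by
    have := (inferInstance : (_root_.commutator G).Normal).conj_mem x hx c
    rwa [inv_eq hset hcD] at this
  have hg : g ∈ closure D := by rw [hgen]; exact mem_top g
  refine closure_induction (fun x hx => ?_) (Or.inl (one_mem _)) (fun p q _ _ hp hq => ?_)
    (fun p _ hp => ?_) hg
  · obtain ⟨k, hk⟩ := CfsgLib.ThreeTransp.class_conj hc hcD hx
    refine Or.inr ?_
    have := commutator_mem_commutator (mem_top k) (mem_top c)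
    rw [commutatorElement_def, hk, inv_eq hset hcD] at this
    rwa [_root_.commutator_def]
  · rcases hp with hp | hp <;> rcases hq with hq | hq
    · exact Or.inl (mul_mem hp hq)
    · exact Or.inr (by rw [mul_assoc]; exact mul_mem hp hq)
    · refine Or.inr ?_
      have e : p * c * (c * q * c) = p * q * c := by
        calc p * c * (c * q * c) = p * (c * c) * q * c := by simp only [mul_assoc]
          _ = _ := by rw [h2, mul_one]
      exact e ▸ mul_mem hp (hconj hq)
    · refine Or.inl ?_
      have e : p * c * (c * (q * c) * c) = p * q := by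
        calc p * c * (c * (q * c) * c) = p * (c * c) * q * (c * c) := by simp only [mul_assoc]
          _ = _ := by rw [h2, mul_one, mul_one]
      exact e ▸ mul_mem hp (hconj hq)
  · rcases hp with hp | hp
    · exact Or.inl (inv_mem hp)
    · refine Or.inr ?_
      have e : c * (p * c)⁻¹ * c = p⁻¹ * c := by
        rw [mul_inv_rev, inv_eq hset hcD, ← mul_assoc, h2, one_mul]
      exact e ▸ hconj (inv_mem hp)

/-- The centraliser in the derived group of the product of three members. -/
theorem triple_product (S : Setting D) (hP : ∀ a ∈ D, ∀ b ∈ link D a, PairTwinFree D a b) {d : G}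
    (hd : d ∈ D) (SX : Setting (img D d)) (hX : Cfsg.IsOfTypeM23 (Quot D d) (img D d))
    (hcenD : centralizer ({d} : Set G) = closure (link D d)) (hl : HasLines D)
    (hodd : ∀ x ∈ D, x ∉ _root_.commutator G) (L : Subgroup G) (hL : L = _root_.commutator G)
    {a b c : G} (ha : a ∈ D) (hb : b ∈ D) (hc : c ∈ D) (hab : a ≠ b) (hac : a ≠ c) (hbc : b ≠ c)
    (cab : Commute a b) (cac : Commute a c) (cbc : Commute b c) (E CL K : Subgroup G)
    (hE : E = closure ({a * b, a * c} : Set G)) (hCL : CL = L ⊓ centralizer ({a * b * c} : Set G))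
    (hK : K = (Cfsg.generalizedFittingSubgroup ↥CL).map CL.subtype) :
    Cfsg.IsQuasisimple ↥K ∧ (center ↥K).map K.subtype = E ∧ K = L ⊓ centralizer (E : Set G) ∧
      (∃ (_ : (E.subgroupOf K).Normal) (F : Type) (_ : Field F) (_ : Fintype F),
        Fintype.card F = 4 ∧ Nonempty (↥K ⧸ E.subgroupOf K ≃* Cfsg.PSU 6 F 2)) ∧
      ∃ _ : (K.subgroupOf CL).Normal, Nonempty (↥CL ⧸ K.subgroupOf CL ≃* Equiv.Perm (Fin 3)) ∧
        E ≤ CL ∧ ∃ (_ : (E.subgroupOf CL).Normal) (F : Type) (_ : Field F) (_ : Fintype F),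
          Fintype.card F = 4 ∧ Nonempty (↥CL ⧸ E.subgroupOf CL ≃* MulAut (Cfsg.PSU 6 F 2)) := by
  have hset := S.cls.1
  have c2 : c * c = 1 := mul_self hset hc
  obtain ⟨hperf, hsplit, hacM, hbcM, hcen, F, i1, i2, hF, ⟨eM⟩⟩ :=
    core_all S hl hd SX hX hcenD hodd ha ⟨hb, hab.symm, cab⟩ ⟨hc, hac.symm, cac⟩ ⟨hc, hbc.symm, cbc⟩
  set M := M3 a b c with hM
  have hMC : M ≤ C3 a b c := M3_le_C3 a b c
  have hML : M ≤ L := by
    rw [hL, _root_.commutator_def]; exact commutator_mono le_top le_top
  have hC3M : ∀ {x}, x ∈ C3 a b c → x ∈ L → x ∈ M := by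
    intro x hx hxL
    refine (hsplit x hx).resolve_right fun h => hodd c hc ?_
    have := mul_mem (hML h) (inv_mem hxL)
    rw [mul_inv_cancel_right, hL] at this
    exact this
  -- the four-group
  have eab : a * b = a * c * (b * c) := by
    rw [mul_assoc, ← mul_assoc c b c, ← cbc.eq, mul_assoc b c c, c2, mul_one]
  have hEE : E = closure ({a * c, b * c} : Set G) := by
    rw [hE]
    refine le_antisymm ((closure_le _).2 ?_) ((closure_le _).2 ?_)
    · rintro x (rfl | rfl)
      · rw [eab]; exact mul_mem (subset_closure (by simp)) (subset_closure (by simp))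
      · exact subset_closure (by simp)
    · rintro x (rfl | rfl)
      · exact subset_closure (by simp)
      · have e : b * c = a * b * (a * c) := by
          rw [mul_assoc, ← mul_assoc b a c, ← cab.eq, ← mul_assoc, ← mul_assoc, mul_self hset ha,
            one_mul]
        rw [e]; exact mul_mem (subset_closure (by simp)) (subset_closure (by simp))
  have hEM : E ≤ M := by
    rw [hEE, closure_le]
    rintro x (rfl | rfl)
    · exact hacM
    · exact hbcM
  have hEcom : ∀ {x y}, x ∈ E → y ∈ C3 a b c → Commute x y := by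
    intro x y hx hy
    rw [hEE] at hx
    obtain ⟨h1, h2, h3⟩ := mem_C3.1 hy
    exact (commute_closure_pair (h1.mul_right h3) (h2.mul_right h3) hx).symm
  have hcent : (center ↥M).map M.subtype = E := by
    refine le_antisymm ?_ fun x hx => ⟨⟨x, hEM hx⟩,
      mem_center_iff.2 fun y => Subtype.ext (hEcom hx (hMC y.2)).eq.symm, rfl⟩
    rintro _ ⟨x, hx, rfl⟩
    rw [hEE]
    exact hcen x x.2 fun y hy => (congrArg Subtype.val (mem_center_iff.1 hx ⟨y, hy⟩)).symm
  have hfix : ∀ {g}, (∀ x ∈ E, Commute x g) → g ∈ C3 a b c := by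
    intro g hg
    have hm : ∀ {x}, x ∈ D → g * x * g⁻¹ ∈ D := fun hx => CfsgLib.ThreeTransp.class_conj_mem S.cls g hx
    have hpr : ∀ {x y}, x * y ∈ E → g * x * g⁻¹ * (g * y * g⁻¹) = x * y := fun {x y} h => by
      rw [show g * x * g⁻¹ * (g * y * g⁻¹) = g * (x * y) * g⁻¹ by group]
      exact conj_self_of_commute (hg _ h).symm
    have hne : ∀ {x y}, x ≠ y → g * x * g⁻¹ ≠ g * y * g⁻¹ := fun h h' =>
      h (mul_left_cancel (mul_right_cancel h'))
    have eab' : a * b ∈ E := hE ▸ subset_closure (Set.mem_insert _ _)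
    have eac' : a * c ∈ E := hE ▸ subset_closure (Set.mem_insert_of_mem _ rfl)
    have key : g * a * g⁻¹ = a ∧ g * b * g⁻¹ = b ∧ g * c * g⁻¹ = c := by
      rcases S.pair_unique (hm ha) (hm hb) ha hb (hne hab) hab ((commute_conj_iff' g a b).2 cab) cab
          (hpr eab') with ⟨h1, h2⟩ | ⟨h1, h2⟩ <;>
        rcases S.pair_unique (hm ha) (hm hc) ha hc (hne hac) hac ((commute_conj_iff' g a c).2 cac) cac
          (hpr eac') with ⟨h3, h4⟩ | ⟨h3, h4⟩
      · exact ⟨h1, h2, h4⟩
      · exact absurd (h1.symm.trans h3) hac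
      · exact absurd (h1.symm.trans h3) hab.symm
      · exact absurd (h1.symm.trans h3) hbc
    exact mem_C3.2 ⟨mul_inv_eq_iff_eq_mul.1 key.1, mul_inv_eq_iff_eq_mul.1 key.2.1,
      mul_inv_eq_iff_eq_mul.1 key.2.2⟩
  have hMeq : M = L ⊓ centralizer (E : Set G) := by
    refine le_antisymm (le_inf hML fun x hx => mem_centralizer_iff.2 fun y hy =>
      (hEcom hy (hMC hx)).eq) fun x hx => hC3M (hfix fun y hy => ?_) hx.1
    exact mem_centralizer_iff.1 hx.2 y hy
  have hMCL : M ≤ CL := by
    rw [hCL]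
    refine le_inf hML fun x hx => mem_centralizer_singleton_iff.2 ?_
    obtain ⟨h1, h2, h3⟩ := mem_C3.1 (hMC hx)
    exact ((h1.mul_right h2).mul_right h3).eq
  -- the action on the triple
  let T : Set G := {a, b, c}
  have hTD : ∀ x ∈ T, x ∈ D := by rintro x (rfl | rfl | rfl) <;> assumption
  have hTc : ∀ x ∈ T, ∀ y ∈ T, Commute x y := by
    rintro x (rfl | rfl | rfl) y (rfl | rfl | rfl) <;>
      first | exact Commute.refl _ | assumption | exact Commute.symm (by assumption)
  have hT : ∀ g ∈ CL, ∀ x ∈ T, g * x * g⁻¹ ∈ T := by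
    intro g hg x hx
    rw [hCL] at hg
    have hz : g * a * g⁻¹ * (g * b * g⁻¹) * (g * c * g⁻¹) = a * b * c := by
      rw [show g * a * g⁻¹ * (g * b * g⁻¹) * (g * c * g⁻¹) = g * (a * b * c) * g⁻¹ by group]
      exact conj_self_of_commute (mem_centralizer_singleton_iff.1 hg.2)
    have hm : ∀ {x}, x ∈ D → g * x * g⁻¹ ∈ D := fun hx => CfsgLib.ThreeTransp.class_conj_mem S.cls g hx
    have hne : ∀ {x y}, x ≠ y → g * x * g⁻¹ ≠ g * y * g⁻¹ := fun h h' =>
      h (mul_left_cancel (mul_right_cancel h'))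
    have h1 := (S.triple_unique hP (hm ha) (hm hb) (hm hc) ha hb hc (hne hab) (hne hac) (hne hbc)
      hab hac hbc ((commute_conj_iff' g a b).2 cab) ((commute_conj_iff' g a c).2 cac)
      ((commute_conj_iff' g b c).2 cbc) cab cac cbc hz (g * x * g⁻¹)).1
    simp only [List.mem_cons, List.not_mem_nil, or_false] at h1
    have h2 := h1 (by rcases hx with rfl | rfl | rfl <;> simp)
    exact h2
  have hTiff : ∀ g : ↥CL, ∀ x : G, x ∈ T ↔ (g : G) * x * (g : G)⁻¹ ∈ T := fun g x =>
    ⟨hT g g.2 x, fun h => by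
      have := hT _ (inv_mem g.2) _ h
      simpa [mul_assoc] using this⟩
  let σ : ↥CL →* Equiv.Perm ↥T :=
    { toFun := fun g => (MulAut.conj (g : G)).toEquiv.subtypeEquiv (fun x => hTiff g x)
      map_one' := by ext x; simp
      map_mul' := fun g h => by ext x; simp [mul_assoc] }
  have hσ : ∀ (g : ↥CL) (x : ↥T), ((σ g x : ↥T) : G) = (g : G) * (x : G) * (g : G)⁻¹ := fun g x => rfl
  set M' := M.subgroupOf CL with hM'
  have hker : σ.ker = M' := by
    ext g
    rw [MonoidHom.mem_ker, mem_subgroupOf]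
    constructor
    · intro h
      have key : ∀ x ∈ T, Commute (g : G) x := fun x hx => by
        have := hσ g ⟨x, hx⟩
        rw [h] at this
        exact mul_inv_eq_iff_eq_mul.1 this.symm
      exact hC3M (mem_C3.2 ⟨key a (by simp [T]), key b (by simp [T]), key c (by simp [T])⟩)
        ((hCL ▸ g.2 : (g : G) ∈ L ⊓ centralizer ({a * b * c} : Set G)).1)
    · intro h
      obtain ⟨h1, h2, h3⟩ := mem_C3.1 (hMC h)
      refine Equiv.ext fun x => Subtype.ext ?_
      rw [hσ]
      refine conj_self_of_commute ?_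
      rcases x.2 with e | e | e <;> rw [e] <;> assumption
  have hσs : Function.Surjective σ := by
    intro π
    have mem : ∀ x : ↥T, (π x : G) ∈ T := fun x => (π x).2
    have hne : ∀ {x y : ↥T}, x ≠ y → (π x : G) ≠ π y := fun h h' => h (π.injective (Subtype.ext h'))
    have hlk : ∀ {x y : ↥T}, x ≠ y → (π y : G) ∈ link D (π x : G) := fun {x y} h =>
      ⟨hTD _ (mem y), (hne h).symm, hTc _ (mem x) _ (mem y)⟩
    let A : ↥T := ⟨a, by simp [T]⟩
    let B : ↥T := ⟨b, by simp [T]⟩
    let C : ↥T := ⟨c, by simp [T]⟩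
    have nAB : A ≠ B := fun h => hab (congrArg Subtype.val h)
    have nAC : A ≠ C := fun h => hac (congrArg Subtype.val h)
    have nBC : B ≠ C := fun h => hbc (congrArg Subtype.val h)
    obtain ⟨g, g1, g2, g3⟩ := S.exists_conj_triple hd (pair_of_typeM23_img hX) SX ha
      ⟨hb, hab.symm, cab⟩ ⟨hc, hac.symm, cac⟩ ⟨hc, hbc.symm, cbc⟩ (hTD _ (mem A)) (hlk nAB)
      (hlk nAC) (hlk nBC)
    have hz : g * (a * b * c) * g⁻¹ = a * b * c := by
      rw [show g * (a * b * c) * g⁻¹ = g * a * g⁻¹ * (g * b * g⁻¹) * (g * c * g⁻¹) by group, g1, g2, g3]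
      exact prod_perm cab cac cbc (mem A) (mem B) (mem C) (hne nAB) (hne nAC) (hne nBC)
    have fin : ∀ k : G, k ∈ L → k * (a * b * c) * k⁻¹ = a * b * c →
        (∀ x ∈ T, k * x * k⁻¹ = g * x * g⁻¹) → ∃ k' : ↥CL, σ k' = π := by
      intro k hkL hkz hk
      have hkC : k ∈ CL := by
        rw [hCL]
        exact ⟨hkL, mem_centralizer_singleton_iff.2 (mul_inv_eq_iff_eq_mul.1 hkz)⟩
      refine ⟨⟨k, hkC⟩, Equiv.ext fun x => Subtype.ext ?_⟩
      rw [hσ, hk x x.2]
      rcases x.2 with e | e | e
      · rw [show x = A from Subtype.ext e]; exact g1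
      · rw [show x = B from Subtype.ext e]; exact g2
      · rw [show x = C from Subtype.ext e]; exact g3
    rcases mem_or_mul_mem S.cls hc g with hg | hg <;> rw [← hL] at hg
    · exact fin g hg hz fun x _ => rfl
    · refine fin _ hg ?_ fun x hx => ?_
      · rw [show g * c * (a * b * c) * (g * c)⁻¹ = g * (c * (a * b * c) * c⁻¹) * g⁻¹ by group,
          conj_self_of_commute ((cac.symm.mul_right cbc.symm).mul_right (Commute.refl c)), hz]
      · rw [show g * c * x * (g * c)⁻¹ = g * (c * x * c⁻¹) * g⁻¹ by group,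
          conj_self_of_commute (hTc c (by simp [T]) x hx)]
  have hTcard : Nat.card ↥T = 3 := by
    rw [Nat.card_coe_set_eq]
    exact Set.ncard_eq_three.2 ⟨a, b, c, hab, hac, hbc, rfl⟩
  haveI : Finite ↥T := Nat.finite_of_card_ne_zero (by omega)
  let eT : Equiv.Perm ↥T ≃* Equiv.Perm (Fin 3) := (Finite.equivFinOfCardEq hTcard).permCongrHom
  -- quasisimplicity
  haveI hs : IsSimpleGroup (↥M ⧸ center ↥M) := isSimpleGroup_of_psu hF eM
  have hMq : Cfsg.IsQuasisimple ↥M := ⟨isPerfect_iff.2 hperf, hs⟩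
  haveI hM'n : M'.Normal := hker ▸ σ.normal_ker
  have hM'q : Cfsg.IsQuasisimple ↥M' :=
    (CfsgLib.Components.quasisimple_congr (subgroupOfEquivOfLe hMCL).symm).1 hMq
  haveI : Group.IsPerfect ↥M' := hM'q.1
  have hMcomp : Cfsg.IsComponent M' := ⟨Subgroup.Normal.isSubnormal hM'n, hM'q⟩
  have hCM : ∀ {g : ↥CL}, (∀ x ∈ M', Commute g x) → (g : G) ∈ E := by
    intro g hg
    have hgM : ∀ x ∈ M, Commute (g : G) x := fun x hx =>
      congrArg Subtype.val (hg ⟨x, hMCL hx⟩ (mem_subgroupOf.2 hx))
    have hgm : (g : G) ∈ M := hMeq ▸ ⟨(hCL ▸ g.2 : (g : G) ∈ L ⊓ centralizer ({a * b * c} : Set G)).1,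
      mem_centralizer_iff.2 fun y hy => (hgM y (hEM hy)).eq.symm⟩
    rw [hEE]
    exact hcen _ hgm hgM
  have hgf : Cfsg.generalizedFittingSubgroup ↥CL = M' := by
    refine le_antisymm (sup_le (sSup_le fun J hJ => ?_) fun g hg => ?_)
      (CfsgLib.Components.component_le_genFitting hMcomp)
    · by_cases hJM : J = M'
      · exact hJM.le
      exfalso
      have hcJ := CfsgLib.Components.component_commutator_of_ne hJ hMcomp hJM
      have hJE : ∀ g ∈ J, (g : G) ∈ E := fun g hg => hCM fun x hx =>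
        (mem_centralizer_iff.1 (commutator_eq_bot_iff_le_centralizer.1 hcJ hg) x hx).symm
      exact CfsgLib.Components.quasisimple_not_isMulCommutative hJ.2 ⟨⟨fun x y =>
        Subtype.ext (Subtype.ext (hEcom (hJE x x.2) (hMC (hEM (hJE y y.2)))).eq)⟩⟩
    · have hcf := CfsgLib.Components.component_commutator_fitting hMcomp
      rw [commutator_comm] at hcf
      exact mem_subgroupOf.2 (hEM (hCM fun x hx =>
        (mem_centralizer_iff.1 (commutator_eq_bot_iff_le_centralizer.1 hcf hg) x hx).symm))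
  have hKM : K = M := by rw [hK, hgf, hM', map_subgroupOf_eq_of_le hMCL]
  subst hKM
  have hECL : E ≤ CL := hEM.trans hMCL
  have hEsub : E.subgroupOf M = center ↥M := by
    ext x
    rw [mem_subgroupOf]
    constructor
    · intro hx
      exact mem_center_iff.2 fun y => Subtype.ext (hEcom hx (hMC y.2)).eq.symm
    · intro hx
      exact hcent ▸ ⟨x, hx, rfl⟩
  obtain ⟨eM'⟩ := CfsgLib.FischerPair.nonempty_quot_center_congr (subgroupOfEquivOfLe hMCL)
  let Θ : ↥CL →* MulAut (Cfsg.PSU 6 F 2) :=
    ((MulAut.congr (eM'.trans eM)).toMonoidHom.comp (CfsgLib.AutPSL.descend (G := ↥M'))).comp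
      MulAut.conjNormal
  have hΘk : Θ.ker = E.subgroupOf CL := by
    ext g
    have hinj : Function.Injective ((MulAut.congr (eM'.trans eM)).toMonoidHom.comp
        (CfsgLib.AutPSL.descend (G := ↥M'))) :=
      (MulAut.congr (eM'.trans eM)).injective.comp CfsgLib.Components.descend_injective
    rw [MonoidHom.mem_ker, mem_subgroupOf, MonoidHom.comp_apply, map_eq_one_iff _ hinj]
    constructor
    · intro h
      refine hCM fun x hx => ?_
      have := congrArg (fun f : MulAut ↥M' => ((f ⟨x, hx⟩ : ↥M') : ↥CL)) h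
      exact mul_inv_eq_iff_eq_mul.1 (by simpa [MulAut.conjNormal_apply] using this)
    · intro hg
      refine MulEquiv.ext fun x => Subtype.ext (Subtype.ext ?_)
      simp only [MulAut.conjNormal_apply, MulAut.one_apply, Subgroup.coe_mul, Subgroup.coe_inv]
      exact conj_self_of_commute (hEcom hg (hMC (mem_subgroupOf.1 x.2)))
  haveI hEn : (E.subgroupOf CL).Normal := hΘk ▸ Θ.normal_ker
  have hΘs : Function.Surjective Θ := by
    haveI : Finite (MulAut (Cfsg.PSU 6 F 2)) :=
      Finite.of_injective (fun f : MulAut (Cfsg.PSU 6 F 2) => (f : Cfsg.PSU 6 F 2 → Cfsg.PSU 6 F 2))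
        DFunLike.coe_injective
    rw [← MonoidHom.range_eq_top]
    refine Subgroup.eq_top_of_card_eq _ ?_
    haveI : Fact (Nat.Prime 2) := ⟨Nat.prime_two⟩
    rw [CfsgLib.AutPSU.card_aut (n := 6) (q := 2) (F := F) 2 1 (by norm_num) (by rw [hF]; norm_num)
      (by norm_num) (by omega)]
    have h1 := card_eq_card_quotient_mul_card_subgroup M'
    have h2 := card_eq_card_quotient_mul_card_subgroup (center ↥M')
    have h3 := card_eq_card_quotient_mul_card_subgroup (E.subgroupOf CL)
    have h4 : Nat.card (↥CL ⧸ M') = 6 := by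
      rw [Nat.card_congr (((QuotientGroup.quotientMulEquivOfEq hker.symm).trans
        (QuotientGroup.quotientKerEquivOfSurjective σ hσs)).trans eT).toEquiv, Nat.card_perm,
        Nat.card_fin]
      rfl
    have h5 : Nat.card (↥M' ⧸ center ↥M') = Nat.card (Cfsg.PSU 6 F 2) :=
      Nat.card_congr (eM'.trans eM).toEquiv
    have h6 : Nat.card ↥(center ↥M') = Nat.card ↥(E.subgroupOf CL) := by
      rw [Nat.card_congr (Subgroup.subgroupOfEquivOfLe hECL).toEquiv, ← hcent]
      rw [card_map_of_injective M.subtype_injective]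
      exact Nat.card_congr ((Subgroup.equivMapOfInjective _ (subgroupOfEquivOfLe hMCL).toMonoidHom
        (subgroupOfEquivOfLe hMCL).injective).trans (MulEquiv.subgroupCongr (by
          refine le_antisymm ?_ fun x hx => ?_
          · rintro _ ⟨x, hx, rfl⟩
            refine mem_center_iff.2 fun y => ?_
            obtain ⟨y, rfl⟩ := (subgroupOfEquivOfLe hMCL).surjective y
            show subgroupOfEquivOfLe hMCL y * subgroupOfEquivOfLe hMCL x =
              subgroupOfEquivOfLe hMCL x * subgroupOfEquivOfLe hMCL y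
            rw [← map_mul, ← map_mul, mem_center_iff.1 hx y]
          · refine ⟨(subgroupOfEquivOfLe hMCL).symm x, mem_center_iff.2 fun y =>
              (subgroupOfEquivOfLe hMCL).injective ?_, (subgroupOfEquivOfLe hMCL).apply_symm_apply x⟩
            rw [map_mul, map_mul, MulEquiv.apply_symm_apply, mem_center_iff.1 hx _]))).toEquiv
    have h7 : 0 < Nat.card ↥(E.subgroupOf CL) := Nat.card_pos
    rw [← Nat.card_congr (QuotientGroup.quotientKerEquivRange Θ).toEquiv,
      Nat.card_congr (QuotientGroup.quotientMulEquivOfEq hΘk).toEquiv]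
    rw [show Nat.gcd 6 (2 + 1) = 3 by norm_num]
    refine Nat.eq_of_mul_eq_mul_right h7 ?_
    rw [← h3, h1, h2, h4, h5, h6]
    ring
  haveI hEMn : (E.subgroupOf M).Normal := hEsub ▸ inferInstance
  exact ⟨hMq, hcent, hMeq, ⟨hEMn, F, i1, i2, hF,
      ⟨(QuotientGroup.quotientMulEquivOfEq hEsub).trans eM⟩⟩,
    hM'n, ⟨((QuotientGroup.quotientMulEquivOfEq hker.symm).trans
      (QuotientGroup.quotientKerEquivOfSurjective σ hσs)).trans eT⟩, hECL, hEn, F, i1, i2, hF,
    ⟨(QuotientGroup.quotientMulEquivOfEq hΘk.symm).trans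
      (QuotientGroup.quotientKerEquivOfSurjective Θ hΘs)⟩⟩

end CfsgLib.FischerTriple
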