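import Cfsg.Agent.Lib.FischerPair.Main
import Cfsg.Agent.Lib.FischerCent.Levels

set_option autoImplicit false

/-!
The common centraliser of three pairwise commuting members in type M(24), from the centraliser of a
commuting pair in the image of a link.
-/

namespace CfsgLib.FischerTriple

open Subgroup
open CfsgLib.ThreeTrans (link mul_self inv_eq conj_self_of_commute)
open CfsgLib.FischerType
open scoped commutatorElement

variable {G : Type*} [Group G]

/-- The common centraliser of three elements. -/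
def C3 (a b c : G) : Subgroup G := centralizer ({a, b, c} : Set G)

/-- The derived group of the common centraliser. -/
def M3 (a b c : G) : Subgroup G := ⁅C3 a b c, C3 a b c⁆

theorem mem_C3 {a b c g : G} : g ∈ C3 a b c ↔ Commute g a ∧ Commute g b ∧ Commute g c := by
  rw [C3, mem_centralizer_iff]
  simp only [Set.mem_insert_iff, Set.mem_singleton_iff, forall_eq_or_imp, forall_eq]
  exact ⟨fun h => ⟨h.1.symm, h.2.1.symm, h.2.2.symm⟩, fun h => ⟨h.1.eq.symm, h.2.1.eq.symm, h.2.2.eq.symm⟩⟩

theorem M3_le_C3 (a b c : G) : M3 a b c ≤ C3 a b c := commutator_le_self _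

/-- What is needed about the common centraliser of a triple. -/
structure Core (a b c : G) : Prop where
  perfect : ⁅M3 a b c, M3 a b c⁆ = M3 a b c
  split : ∀ x ∈ C3 a b c, x ∈ M3 a b c ∨ c * x ∈ M3 a b c
  ac : a * c ∈ M3 a b c
  bc : b * c ∈ M3 a b c
  cen : ∀ x ∈ M3 a b c, (∀ y ∈ M3 a b c, Commute x y) → x ∈ closure ({a * c, b * c} : Set G)
  iso : ∃ (F : Type) (_ : Field F) (_ : Fintype F), Fintype.card F = 4 ∧
    Nonempty (↥(M3 a b c) ⧸ center ↥(M3 a b c) ≃* Cfsg.PSU 6 F 2)

theorem C3_map (g a b c : G) :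
    (C3 a b c).map (MulAut.conj g).toMonoidHom = C3 (g * a * g⁻¹) (g * b * g⁻¹) (g * c * g⁻¹) := by
  ext x
  rw [mem_map_equiv, mem_C3, mem_C3]
  have h : ∀ y, Commute ((MulAut.conj g).symm x) y ↔ Commute x (g * y * g⁻¹) := fun y => by
    rw [← CfsgLib.ThreeTrans.commute_conj_iff' g ((MulAut.conj g).symm x) y]
    simp [mul_assoc]
  rw [h, h, h]

theorem M3_map (g a b c : G) :
    (M3 a b c).map (MulAut.conj g).toMonoidHom = M3 (g * a * g⁻¹) (g * b * g⁻¹) (g * c * g⁻¹) := by
  rw [M3, Subgroup.map_commutator, C3_map]; rfl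

theorem Core.conj {a b c : G} (h : Core a b c) (g : G) :
    Core (g * a * g⁻¹) (g * b * g⁻¹) (g * c * g⁻¹) := by
  have hM := M3_map g a b c
  have hinj : Function.Injective (MulAut.conj g).toMonoidHom := (MulAut.conj g).injective
  have hmem : ∀ {x}, x ∈ M3 a b c → g * x * g⁻¹ ∈ M3 (g * a * g⁻¹) (g * b * g⁻¹) (g * c * g⁻¹) :=
    fun {x} hx => hM ▸ ⟨x, hx, rfl⟩
  refine ⟨?_, fun x hx => ?_, ?_, ?_, fun x hx hxy => ?_, ?_⟩
  · rw [← hM, ← Subgroup.map_commutator, h.perfect]
  · rw [← C3_map] at hx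
    obtain ⟨y, hy, rfl⟩ := hx
    rcases h.split y hy with h1 | h1
    · exact Or.inl (hmem h1)
    · refine Or.inr ?_
      have := hmem h1
      simpa [mul_assoc] using this
  · simpa [mul_assoc] using hmem h.ac
  · simpa [mul_assoc] using hmem h.bc
  · rw [← hM] at hx hxy
    obtain ⟨y, hy, rfl⟩ := hx
    have h1 := h.cen y hy fun z hz =>
      (commute_map_iff hinj).1 (hxy _ ⟨z, hz, rfl⟩)
    have h2 : (MulAut.conj g).toMonoidHom y ∈
        (closure ({a * c, b * c} : Set G)).map (MulAut.conj g).toMonoidHom := ⟨y, h1, rfl⟩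
    rw [MonoidHom.map_closure, Set.image_pair] at h2
    simpa [mul_assoc] using h2
  · obtain ⟨F, i1, i2, hF, ⟨e⟩⟩ := h.iso
    let e' : ↥(M3 a b c) ≃* ↥(M3 (g * a * g⁻¹) (g * b * g⁻¹) (g * c * g⁻¹)) :=
      ((M3 a b c).equivMapOfInjective _ hinj).trans (MulEquiv.subgroupCongr hM)
    obtain ⟨e''⟩ := CfsgLib.FischerPair.nonempty_quot_center_congr e'
    exact ⟨F, i1, i2, hF, ⟨e''.symm.trans e⟩⟩

theorem commute_closure_pair {a b x : G} (ha : Commute x a) (hb : Commute x b) {y : G}
    (hy : y ∈ closure ({a, b} : Set G)) : Commute x y :=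
  (mem_centralizer_singleton_iff.1 (((closure_le (centralizer ({x} : Set G))).2 (by
    rintro z (rfl | rfl)
    · exact mem_centralizer_singleton_iff.2 ha.eq.symm
    · exact mem_centralizer_singleton_iff.2 hb.eq.symm)) hy)).symm

theorem closure_three {a b c : G} (hc2 : c * c = 1) (ha : Commute c a) (hb : Commute c b) {y : G}
    (hy : y ∈ closure ({a, b, c} : Set G)) :
    y ∈ closure ({a * c, b * c} : Set G) ∨ y * c ∈ closure ({a * c, b * c} : Set G) := by
  set E := closure ({a * c, b * c} : Set G) with hE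
  have hcE : ∀ {z}, z ∈ E → Commute c z := fun hz =>
    commute_closure_pair (ha.mul_right (Commute.refl c)) (hb.mul_right (Commute.refl c)) hz
  refine closure_induction ?_ ?_ (fun p q _ _ hp hq => ?_) (fun p _ hp => ?_) hy
  · rintro z (rfl | rfl | rfl)
    · exact Or.inr (subset_closure (by simp))
    · exact Or.inr (subset_closure (by simp))
    · exact Or.inr (by rw [hc2]; exact one_mem _)
  · exact Or.inl (one_mem _)
  · have hci : c⁻¹ = c := inv_eq_of_mul_eq_one_left hc2
    rcases hp with hp | hp <;> rcases hq with hq | hq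
    · exact Or.inl (mul_mem hp hq)
    · exact Or.inr (by rw [mul_assoc]; exact mul_mem hp hq)
    · refine Or.inr ?_
      have := mul_mem hp hq
      rwa [mul_assoc, (hcE hq).eq, ← mul_assoc] at this
    · refine Or.inl ?_
      have := mul_mem hp hq
      rwa [mul_assoc, ← mul_assoc c, (show Commute c q from by
        have h1 := (hcE hq).mul_right (Commute.refl c)
        rwa [mul_assoc, hc2, mul_one] at h1).eq, mul_assoc q, hc2, mul_one] at this
  · rcases hp with hp | hp
    · exact Or.inl (inv_mem hp)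
    · refine Or.inr ?_
      have h1 := inv_mem hp
      rw [mul_inv_rev, inv_eq_of_mul_eq_one_left hc2] at h1
      have h2 : Commute c p⁻¹ := by
        have h3 := ((hcE hp).mul_right (Commute.refl c))
        rw [mul_assoc, hc2, mul_one] at h3
        exact h3.inv_right
      rwa [← h2.eq]

variable [Finite G] {D : Set G}

/-- The common centraliser of two link members and their centre. -/
theorem core_of_img (S : Setting D) (hl : HasLines D) {d : G} (hd : d ∈ D) (SX : Setting (img D d))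
    (hX : Cfsg.IsOfTypeM23 (Quot D d) (img D d))
    (hcenD : centralizer ({d} : Set G) = closure (link D d))
    (hodd : ∀ x ∈ D, x ∉ _root_.commutator G) {a b : G} (ha : a ∈ link D d) (hb : b ∈ link D d)
    (hba : b ∈ link D a) : Core a b d := by
  have hset := S.cls.1
  have hn := S.noCentral hd (pair_of_typeM23_img hX)
  set H := closure (link D d) with hH
  set K := centralizer ({toImg D d ha, toImg D d hb} : Set (Quot D d)) with hK
  -- the pair in the image
  obtain ⟨d', hd', hpair', SY, hY⟩ := CfsgLib.FischerCent.imgData_of_typeM23 SX hX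
  obtain ⟨u', hu', -⟩ := id hpair'
  have hPX : ∀ p ∈ img D d, ∀ q ∈ link (img D d) p, PairTwinFree (img D d) p q := fun p hp q hq =>
    SX.pairTwinFree_all hd' hu' (SX.pairTwinFree_of_img hd' hu' hpair'
      (SY.linkTwinFree_of_typeM22 hY _ (toImg_mem hu'))) hp hq
  have h12 : toImg D d hb ∈ link (img D d) (toImg D d ha) :=
    ⟨toImg_mem hb, fun h => hba.2.1 (eq_of_toImg hset hn hb ha h), commute_toImg ha hb hba.2.2⟩
  obtain ⟨hperf, hcen, F, i1, i2, hF, -, ⟨eK⟩⟩ := CfsgLib.FischerPair.pair_centralizer SX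
    (SX.good_of_typeM23 hX).lines hPX hd' SY hY
    (CfsgLib.FischerCent.centralizer_eq_of_typeM23 SX hX hd').le
    (fun q hq => (CfsgLib.FischerCent.centralizer_eq_of_typeM22 SY hY hq).le) (toImg_mem ha) h12
  rw [← hK] at hperf hcen eK
  -- the map
  set C := C3 a b d with hC
  set M := M3 a b d with hM
  have hCd : ∀ {x}, x ∈ C → Commute x d := fun hx => (mem_C3.1 hx).2.2
  have hdC : d ∈ C := mem_C3.2 ⟨ha.2.2, hb.2.2, Commute.refl d⟩
  have hCH : C ≤ H := fun x hx => hcenD ▸ mem_centralizer_singleton_iff.2 (hCd hx).eq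
  have hdH : d ∈ H := hCH hdC
  let f : ↥C →* Quot D d := (QuotientGroup.mk' (center ↥H)).comp (Subgroup.inclusion hCH)
  have hfK : ∀ x : ↥C, f x ∈ K := fun x => by
    refine mem_centralizer_iff.2 ?_
    rintro q (rfl | rfl)
    · exact (show Commute (⟨a, subset_closure ha⟩ : ↥H) (Subgroup.inclusion hCH x) from
        Subtype.ext (mem_C3.1 x.2).1.eq.symm).map (QuotientGroup.mk' _) |>.eq
    · exact (show Commute (⟨b, subset_closure hb⟩ : ↥H) (Subgroup.inclusion hCH x) from
        Subtype.ext (mem_C3.1 x.2).2.1.eq.symm).map (QuotientGroup.mk' _) |>.eq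
  let φ : ↥C →* ↥K := f.codRestrict K hfK
  have hφ : Function.Surjective φ := by
    rintro ⟨q, hq⟩
    obtain ⟨⟨h, hh⟩, rfl⟩ := QuotientGroup.mk_surjective q
    have hhd : Commute h d :=
      mem_centralizer_singleton_iff.1 (CfsgLib.FischerUnique.closure_link_le_centralizer hh)
    have key : ∀ {w} (hw : w ∈ link D d),
        Commute (QuotientGroup.mk (⟨h, hh⟩ : ↥H) : Quot D d) (toImg D d hw) → Commute h w := by
      intro w hw hc
      have hm : h * w * h⁻¹ ∈ link D d := by
        have := link_conj_mem S.cls h hw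
        rwa [conj_self_of_commute hhd] at this
      refine mul_inv_eq_iff_eq_mul.1 (eq_of_toImg hset hn hm hw ?_)
      exact (CfsgLib.FischerPair.conj_mk hw ⟨h, hh⟩ hm).trans (conj_self_of_commute hc)
    refine ⟨⟨h, mem_C3.2 ⟨key ha ?_, key hb ?_, hhd⟩⟩, rfl⟩
    · exact (mem_centralizer_iff.1 hq _ (Set.mem_insert _ _)).symm
    · exact (mem_centralizer_iff.1 hq _ (Set.mem_insert_of_mem _ rfl)).symm
  have hker : ∀ x : ↥C, f x = 1 → (x : G) = 1 ∨ (x : G) = d := fun x hx =>
    CfsgLib.FischerUnique.center_link_le S hl hd ha ((QuotientGroup.eq_one_iff _).1 hx)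
  have hd2 : d * d = 1 := mul_self hset hd
  have hMC : M ≤ C := M3_le_C3 a b d
  have hMimg : (commutator ↥C).map φ = ⊤ := by
    rw [_root_.commutator_def, Subgroup.map_commutator, Subgroup.map_top_of_surjective _ hφ,
      ← _root_.commutator_def, hperf]
  have hMeq : (commutator ↥C).map C.subtype = M := map_subtype_commutator C
  have split : ∀ x ∈ C, x ∈ M ∨ d * x ∈ M := by
    intro x hx
    obtain ⟨m, hm, hmx⟩ : φ ⟨x, hx⟩ ∈ (commutator ↥C).map φ := by rw [hMimg]; exact mem_top _
    have hmM : (m : G) ∈ M := hMeq ▸ ⟨m, hm, rfl⟩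
    have h1 : f (⟨x, hx⟩ * m⁻¹) = 1 := by
      rw [map_mul, map_inv, show f m = f ⟨x, hx⟩ from congrArg Subtype.val hmx, mul_inv_cancel]
    rcases hker _ h1 with h | h
    · exact Or.inl (mul_inv_eq_one.1 (show x * (m : G)⁻¹ = 1 from h) ▸ hmM)
    · refine Or.inr ?_
      rw [mul_inv_eq_iff_eq_mul.1 (show x * (m : G)⁻¹ = d from h), ← mul_assoc, hd2, one_mul]
      exact hmM
  have hMG : M ≤ _root_.commutator G := by
    rw [_root_.commutator_def]; exact commutator_mono le_top le_top
  have hw : ∀ {w}, w ∈ link D d → w ∈ C → w * d ∈ M := fun {w} hwl hwC => by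
    rcases split w hwC with h | h
    · exact absurd (hMG h) (hodd w hwl.1)
    · rwa [hwl.2.2.eq] at h
  have haC : a ∈ C := mem_C3.2 ⟨Commute.refl a, hba.2.2, ha.2.2.symm⟩
  have hbC : b ∈ C := mem_C3.2 ⟨hba.2.2.symm, Commute.refl b, hb.2.2.symm⟩
  -- elements of `M` centralising `M` centralise `C`
  have hMcen : ∀ {x}, x ∈ M → (∀ y ∈ M, Commute x y) → ∀ y ∈ C, Commute x y := by
    intro x hx hxy y hy
    rcases split y hy with h | h
    · exact hxy y h
    · have := (hCd (hMC hx)).mul_right (hxy _ h)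
      rwa [← mul_assoc, hd2, one_mul] at this
  have hcenK : ∀ x : ↥C, φ x ∈ center ↥K → (x : G) ∈ closure ({a, b, d} : Set G) := by
    intro x hx
    have h1 := hcen _ hx
    have h2 : ∀ q ∈ closure ({toImg D d ha, toImg D d hb} : Set (Quot D d)),
        ∃ y : ↥C, f y = q ∧ (y : G) ∈ closure ({a, b, d} : Set G) := by
      intro q hq
      refine closure_induction ?_ ⟨1, map_one _, one_mem _⟩ (fun p q _ _ hp hq => ?_)
        (fun p _ hp => ?_) hq
      · rintro q (rfl | rfl)
        · exact ⟨⟨a, haC⟩, rfl, subset_closure (by simp)⟩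
        · exact ⟨⟨b, hbC⟩, rfl, subset_closure (by simp)⟩
      · obtain ⟨y, rfl, hy⟩ := hp
        obtain ⟨z, rfl, hz⟩ := hq
        exact ⟨y * z, map_mul _ _ _, mul_mem hy hz⟩
      · obtain ⟨y, rfl, hy⟩ := hp
        exact ⟨y⁻¹, map_inv _ _, inv_mem hy⟩
    obtain ⟨y, hy, hyc⟩ := h2 _ h1
    have h3 : f (x * y⁻¹) = 1 := by rw [map_mul, map_inv, hy]; exact mul_inv_cancel _
    rcases hker _ h3 with h | h
    · rw [mul_inv_eq_one.1 (show (x : G) * (y : G)⁻¹ = 1 from h)]; exact hyc
    · rw [mul_inv_eq_iff_eq_mul.1 (show (x : G) * (y : G)⁻¹ = d from h)]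
      exact mul_mem (subset_closure (by simp)) hyc
  have hφcen : ∀ x : ↥C, (∀ y ∈ C, Commute (x : G) y) → φ x ∈ center ↥K := fun x h =>
    mem_center_iff.2 fun k => by
      obtain ⟨y, rfl⟩ := hφ k
      rw [← map_mul, ← map_mul]
      exact congrArg φ (Subtype.ext (h y y.2).eq.symm)
  have hEd : ∀ {x}, x ∈ M → x ∈ closure ({a, b, d} : Set G) →
      x ∈ closure ({a * d, b * d} : Set G) := by
    intro x hx h
    rcases closure_three hd2 ha.2.2 hb.2.2 h with h1 | h1
    · exact h1
    · have hE : closure ({a * d, b * d} : Set G) ≤ M := (closure_le _).2 (by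
        rintro z (rfl | rfl)
        · exact hw ha haC
        · exact hw hb hbC)
      refine absurd (hMG ?_) (hodd d hd)
      have := mul_mem (inv_mem hx) (hE h1)
      rwa [inv_mul_cancel_left] at this
  refine ⟨?_, split, hw ha haC, hw hb hbC, fun x hx hxy => ?_, F, i1, i2, hF, ?_⟩
  · refine le_antisymm (commutator_le_self _) ?_
    show ⁅C, C⁆ ≤ ⁅M, M⁆
    refine commutator_le.2 fun x hx y hy => ?_
    have hce : ∀ {u v}, u ∈ C → v ∈ C → ⁅d * u, v⁆ = ⁅u, v⁆ ∧ ⁅u, d * v⁆ = ⁅u, v⁆ := by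
      intro u v hu hv
      have hdu : d * u = u * d := (hCd hu).eq.symm
      have hdv : d * v = v * d := (hCd hv).eq.symm
      have e2 : d⁻¹ * v⁻¹ = v⁻¹ * d⁻¹ := by rw [← mul_inv_rev, ← mul_inv_rev, hdv]
      have e1 : d * u⁻¹ = u⁻¹ * d := (hCd hu).inv_left.eq.symm
      constructor
      · calc ⁅d * u, v⁆ = u * (d * v) * d⁻¹ * u⁻¹ * v⁻¹ := by
              rw [commutatorElement_def, hdu]; group
          _ = u * v * u⁻¹ * v⁻¹ := by rw [hdv]; group
          _ = ⁅u, v⁆ := rfl
      · calc ⁅u, d * v⁆ = u * d * v * u⁻¹ * (v⁻¹ * d⁻¹) := by rw [commutatorElement_def]; group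
          _ = u * (d * v) * u⁻¹ * d⁻¹ * v⁻¹ := by rw [← e2]; group
          _ = u * v * (d * u⁻¹) * d⁻¹ * v⁻¹ := by rw [hdv]; group
          _ = u * v * u⁻¹ * v⁻¹ := by rw [e1]; group
          _ = ⁅u, v⁆ := rfl
    rcases split x hx with h | h <;> rcases split y hy with h' | h'
    · exact commutator_mem_commutator h h'
    · exact (hce hx hy).2 ▸ commutator_mem_commutator h h'
    · exact (hce hx hy).1 ▸ commutator_mem_commutator h h'
    · have h'' : d * y ∈ C := mul_mem hdC hy
      rw [← (hce hx hy).2, ← (hce hx h'').1]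
      exact commutator_mem_commutator h h'
  · exact hEd hx (hcenK ⟨x, hMC hx⟩ (hφcen _ (hMcen hx hxy)))
  · let ψ : ↥M →* ↥K ⧸ center ↥K := (QuotientGroup.mk' _).comp (φ.comp (Subgroup.inclusion hMC))
    have hψ : Function.Surjective ψ := by
      intro q
      obtain ⟨k, rfl⟩ := QuotientGroup.mk'_surjective _ q
      obtain ⟨m, hm, rfl⟩ : k ∈ (commutator ↥C).map φ := by rw [hMimg]; exact mem_top _
      exact ⟨⟨m, hMeq ▸ ⟨m, hm, rfl⟩⟩, rfl⟩
    have hψk : ψ.ker = center ↥M := by
      ext x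
      rw [MonoidHom.mem_ker]
      show QuotientGroup.mk' _ (φ ⟨x, hMC x.2⟩) = 1 ↔ _
      rw [QuotientGroup.mk'_apply, QuotientGroup.eq_one_iff]
      constructor
      · intro h
        refine mem_center_iff.2 fun y => Subtype.ext ?_
        have hy := mem_C3.1 (hMC y.2)
        exact (show Commute (y : G) x from (mem_centralizer_singleton_iff.1
          (((closure_le (centralizer ({(y : G)} : Set G))).2 (by
            rintro z (rfl | rfl | rfl)
            · exact mem_centralizer_singleton_iff.2 hy.1.eq.symm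
            · exact mem_centralizer_singleton_iff.2 hy.2.1.eq.symm
            · exact mem_centralizer_singleton_iff.2 hy.2.2.eq.symm)) (hcenK _ h))).symm).eq
      · intro h
        exact hφcen _ (hMcen x.2 fun y hy => (congrArg Subtype.val (mem_center_iff.1 h ⟨y, hy⟩)).symm)
    exact ⟨((QuotientGroup.quotientMulEquivOfEq hψk.symm).trans
      (QuotientGroup.quotientKerEquivOfSurjective _ hψ)).trans eK⟩

/-- The common centraliser of any triple. -/
theorem core_all (S : Setting D) (hl : HasLines D) {d : G} (hd : d ∈ D) (SX : Setting (img D d))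
    (hX : Cfsg.IsOfTypeM23 (Quot D d) (img D d))
    (hcenD : centralizer ({d} : Set G) = closure (link D d))
    (hodd : ∀ x ∈ D, x ∉ _root_.commutator G) {a b c : G} (ha : a ∈ D) (hb : b ∈ link D a)
    (hc : c ∈ link D a) (hcb : c ∈ link D b) : Core a b c := by
  have hset := S.cls.1
  obtain ⟨d', hd', hpair', SY, hY⟩ := CfsgLib.FischerCent.imgData_of_typeM23 SX hX
  obtain ⟨q, hq, -⟩ := id hpair'
  obtain ⟨u, hu, rfl⟩ := exists_toImg hd'
  obtain ⟨v, hv, rfl⟩ := exists_toImg hq.1
  have hvu : v ∈ link D u :=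
    ⟨hv.1, fun h => hq.2.1 (by subst h; rfl), commute_of_toImg hset hu hv hq.2.2⟩
  have hsy : ∀ {x}, x ∈ link D d → d ∈ link D x := fun hx => ⟨hd, hx.2.1.symm, hx.2.2.symm⟩
  obtain ⟨g, rfl, rfl, rfl⟩ := S.exists_conj_triple hd (pair_of_typeM23_img hX) SX hu.1 hvu (hsy hu)
    (hsy hv) ha hb hc hcb
  exact (core_of_img S hl hd SX hX hcenD hodd hu hv hvu).conj g

end CfsgLib.FischerTriple
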