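import Cfsg.Agent.Lib.FischerPair.Witness

set_option autoImplicit false

/-! In type M(23) some member is a product of six common neighbours of a pair, one of which commutes with all. -/

namespace CfsgLib.FischerTriple

open Subgroup
open CfsgLib.ThreeTrans (link mul_self inv_eq)
open CfsgLib.FischerType CfsgLib.FischerPair

variable {G : Type*} [Group G] [Finite G] {D : Set G}

/-- The product of six commuting members of a link of `d`, all commuting with `u`, equals `d`. -/
theorem exists_six_commute (S : Setting D) (hl : HasLines D) (hP : ∀ a ∈ D, ∀ b ∈ link D a, PairTwinFree D a b)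
    {d : G} (hd : d ∈ D) (SX : Setting (img D d)) (hX : Cfsg.IsOfTypeM22 (Quot D d) (img D d)) :
    ∃ u ∈ link D d, ∃ p q r a b c, (∀ x ∈ [p, q, r, a, b, c], x ∈ link D d ∩ link D u) ∧
      (∀ x ∈ [p, q, r, a, b, c], Commute a x) ∧ d = p * q * r * c * b * a := by
  obtain ⟨A, B, C, Z, Z', hA, hB, hC, hCB, hZ, hZ', hzz⟩ := exists_witness SX hX
  obtain ⟨d', hd', hpair', SY, F, i1, i2, hF, ⟨e⟩⟩ :=
    CfsgLib.FischerUnique.exists_data_of_typeM22 SX hX
  obtain ⟨P, Q, R, hPQ, hPR, hQR, hrad, hprod⟩ := SX.exists_partner hd' hpair' SY hF e hA hB hC hCB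
  have hset := S.cls.1
  have mP : P ∈ radical (img D d) A B C := by rw [hrad]; simp
  have mQ : Q ∈ radical (img D d) A B C := by rw [hrad]; simp
  have mR : R ∈ radical (img D d) A B C := by rw [hrad]; simp
  obtain ⟨a, ha, rfl⟩ := exists_toImg hA
  obtain ⟨b, hb, rfl⟩ := exists_toImg hB.1
  obtain ⟨c, hc, rfl⟩ := exists_toImg hC.1
  obtain ⟨u, hu, rfl⟩ := exists_toImg hZ.1.1.1
  obtain ⟨u', hu', rfl⟩ := exists_toImg hZ'.1.1.1
  obtain ⟨p, hp, rfl⟩ := exists_toImg mP.1.1.1.1
  obtain ⟨q, hq, rfl⟩ := exists_toImg mQ.1.1.1.1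
  obtain ⟨r, hr, rfl⟩ := exists_toImg mR.1.1.1.1
  have ne : ∀ {v w} {hv : v ∈ link D d} {hw : w ∈ link D d},
      toImg D d hv ≠ toImg D d hw → v ≠ w := fun h h' => h (by subst h'; rfl)
  have cm : ∀ {v w} (hv : v ∈ link D d) (hw : w ∈ link D d),
      Commute (toImg D d hv) (toImg D d hw) → Commute v w := fun hv hw h =>
    commute_of_toImg hset hv hw h
  -- members of the radical commute with `u` and differ from it
  have rU : ∀ {s} (hs : s ∈ link D d), toImg D d hs ∈ radical (img D d) (toImg D d ha)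
      (toImg D d hb) (toImg D d hc) → s ∈ link D d ∩ link D u := by
    intro s hs h
    refine ⟨hs, hs.1, fun h' => hzz ?_, (cm hs hu (h.2 _ hZ)).symm⟩
    subst h'
    exact h.2 _ hZ'
  have tU : ∀ {s} (hs : s ∈ link D d), toImg D d hu ∈ link (img D d) (toImg D d hs) →
      s ∈ link D d ∩ link D u := fun hs h =>
    ⟨hs, hs.1, (ne h.2.1).symm, (cm hs hu h.2.2).symm⟩
  have hPd : ∀ {s t} (hs : s ∈ link D d) (ht : t ∈ link D d),
      toImg D d hs ∈ link (img D d) (toImg D d ht) → s ≠ t ∧ Commute s t := fun hs ht h =>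
    ⟨ne h.2.1, (cm ht hs h.2.2).symm⟩
  obtain ⟨⟨⟨pa, pb⟩, pc⟩, pall⟩ := mP
  obtain ⟨⟨⟨qa, qb⟩, qc⟩, qall⟩ := mQ
  obtain ⟨⟨⟨ra, rb⟩, rc⟩, rall⟩ := mR
  refine ⟨u, hu, p, q, r, a, b, c, ?_, ?_, ?_⟩
  · simp only [List.mem_cons, List.not_mem_nil, or_false]
    rintro x (rfl | rfl | rfl | rfl | rfl | rfl)
    · exact rU hp ⟨⟨⟨pa, pb⟩, pc⟩, pall⟩
    · exact rU hq ⟨⟨⟨qa, qb⟩, qc⟩, qall⟩
    · exact rU hr ⟨⟨⟨ra, rb⟩, rc⟩, rall⟩
    · exact tU ha hZ.1.1
    · exact tU hb hZ.1.2
    · exact tU hc hZ.2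
  · simp only [List.mem_cons, List.not_mem_nil, or_false]
    rintro x (rfl | rfl | rfl | rfl | rfl | rfl)
    exacts [cm ha hp pa.2.2, cm ha hq qa.2.2, cm ha hr ra.2.2, Commute.refl _, cm ha hb hB.2.2,
      cm ha hc hC.2.2]
  · have hπ : p * q * r * c * b * a ∈ closure (link D d) := by
      exact mul_mem (mul_mem (mul_mem (mul_mem (mul_mem (subset_closure hp) (subset_closure hq))
        (subset_closure hr)) (subset_closure hc)) (subset_closure hb)) (subset_closure ha)
    have hz : (⟨p, subset_closure hp⟩ * ⟨q, subset_closure hq⟩ * ⟨r, subset_closure hr⟩ *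
        ⟨c, subset_closure hc⟩ * ⟨b, subset_closure hb⟩ * ⟨a, subset_closure ha⟩ :
        ↥(closure (link D d))) ∈ center ↥(closure (link D d)) := by
      rw [← QuotientGroup.eq_one_iff]
      simp only [QuotientGroup.mk_mul]
      show toImg D d hp * toImg D d hq * toImg D d hr * toImg D d hc * toImg D d hb *
        toImg D d ha = 1
      rw [hprod]
      have s1 : ∀ {s} (hs : s ∈ link D d), toImg D d hs * toImg D d hs = 1 := fun hs => by
        rw [← QuotientGroup.mk_mul, ← QuotientGroup.mk_one]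
        exact congrArg _ (Subtype.ext (mul_self hset hs.1))
      simp only [mul_assoc]
      rw [← mul_assoc (toImg D d hc) (toImg D d hc), s1 hc, one_mul,
        ← mul_assoc (toImg D d hb) (toImg D d hb), s1 hb, one_mul, s1 ha]
    rcases CfsgLib.FischerUnique.center_link_le S hl hd ha hz with h | h
    · exfalso
      have he : p * q * r = a * b * c := by
        have h' : p * q * r * (c * b * a) = 1 := by simpa [mul_assoc] using h
        rw [eq_inv_of_mul_eq_one_left h']
        simp [inv_eq hset ha.1, inv_eq hset hb.1, inv_eq hset hc.1, mul_assoc]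
      obtain ⟨nba, cba⟩ := hPd hb ha hB
      obtain ⟨nca, cca⟩ := hPd hc ha hC
      obtain ⟨ncb, ccb⟩ := hPd hc hb hCB
      have h1 := S.triple_unique hP hp.1 hq.1 hr.1 ha.1 hb.1 hc.1 (ne hPQ) (ne hPR) (ne hQR)
        nba.symm nca.symm ncb.symm (cm hp hq (pall _ ⟨⟨qa, qb⟩, qc⟩))
        (cm hp hr (pall _ ⟨⟨ra, rb⟩, rc⟩)) (cm hq hr (qall _ ⟨⟨ra, rb⟩, rc⟩))
        cba.symm cca.symm ccb.symm he p
      simp only [List.mem_cons, true_or, true_iff, List.not_mem_nil, or_false] at h1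
      rcases h1 with h1 | h1 | h1
      · exact ne pa.2.1 h1
      · exact ne pb.2.1 h1
      · exact ne pc.2.1 h1
    · exact h.symm

end CfsgLib.FischerTriple
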