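import Cfsg.Agent.Lib.FischerTriple.ParityTriple
import Cfsg.Agent.Lib.FischerTriple.ParitySix

/-!
In type M(24) the common neighbours of a triple lie outside the derived group of its centraliser and generate
that centraliser.
-/

set_option autoImplicit false

namespace CfsgLib.FischerTriple

open Subgroup
open CfsgLib.ThreeTrans (link mul_self inv_eq conj_self_of_commute)
open CfsgLib.FischerType
open CfsgLib.FischerM24 (C2 odd)
open scoped commutatorElement

variable {G : Type*} [Group G] [Finite G] {D : Set G}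

/-- The standing hypotheses. -/
structure M24Data (D : Set G) (d : G) : Prop where
  S : Setting D
  lines : HasLines D
  mem : d ∈ D
  SX : Setting (img D d)
  hX : Cfsg.IsOfTypeM23 (Quot D d) (img D d)
  cen : centralizer ({d} : Set G) = closure (link D d)

/-- The derived group of the centraliser of a triple has index two and misses the members. -/
theorem M24Data.tri {d : G} (h : M24Data D d) {x y z : G} (hT : Tri D x y z) :
    (∀ g ∈ C3 x y z, g ∈ M3 x y z ∨ z * g ∈ M3 x y z) ∧ x ∉ M3 x y z ∧ y ∉ M3 x y z ∧ z ∉ M3 x y z := by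
  have hz : ∀ {x y z : G}, Tri D x y z →
      (∀ g ∈ C3 x y z, g ∈ M3 x y z ∨ z * g ∈ M3 x y z) ∧ z ∉ M3 x y z := by
    intro x y z hT
    obtain ⟨q, hq, r, hr, -, hrq⟩ : ∃ q ∈ img D d, ∃ r ∈ link (img D d) q, True ∧ r ∈ img D d := by
      obtain ⟨d', hd', hpair', -, -⟩ := CfsgLib.FischerCent.imgData_of_typeM23 h.SX h.hX
      obtain ⟨u', hu', -⟩ := hpair'
      exact ⟨d', hd', u', hu', trivial, hu'.1⟩
    obtain ⟨u, hu, rfl⟩ := exists_toImg hq
    obtain ⟨v, hv, rfl⟩ := exists_toImg hrq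
    have hvu : v ∈ link D u :=
      ⟨hv.1, fun e => hr.2.1 (by subst e; rfl), commute_of_toImg h.S.cls.1 hu hv hr.2.2⟩
    have hT₀ : Tri D u v d := ⟨hu.1, hvu, link_symm' h.mem hu, link_symm' h.mem hv⟩
    obtain ⟨hs, hd, -, -⟩ := triple_img h.S h.lines h.mem h.SX h.hX h.cen hu hv hvu
    obtain ⟨g, rfl, rfl, rfl⟩ := h.S.exists_conj_triple h.mem (pair_of_typeM23_img h.hX) h.SX hT₀.1 hT₀.2.1
      hT₀.2.2.1 hT₀.2.2.2 hT.1 hT.2.1 hT.2.2.1 hT.2.2.2
    refine ⟨fun k hk => ?_, fun hm => ?_⟩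
    · rw [← C3_map] at hk
      obtain ⟨k, hk', rfl⟩ := hk
      rw [← M3_map]
      refine (hs k hk').imp (fun hm => ⟨k, hm, rfl⟩) fun hm => ⟨_, hm, ?_⟩
      simp [mul_assoc]
    · rw [← M3_map] at hm
      obtain ⟨m, hm', e⟩ := hm
      exact hd ((mul_left_cancel (mul_right_cancel e) : m = d) ▸ hm')
  refine ⟨(hz hT).1, ?_, ?_, (hz hT).2⟩
  · rw [M3_rot]; exact (hz hT.rot).2
  · rw [← M3_rot z x y]; exact (hz hT.rot.rot).2

/-- The parity of the centraliser of a triple. -/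
theorem M24Data.exists_char {d : G} (h : M24Data D d) {x y z : G} (hT : Tri D x y z) :
    ∃ ψ : ↥(C3 x y z) →* C2, ∀ g : ↥(C3 x y z),
      ((g : G) ∈ M3 x y z → ψ g = 1) ∧ ((g : G) ∉ M3 x y z → ψ g = odd) := by
  classical
  obtain ⟨hs, -, -, -⟩ := h.tri hT
  obtain ⟨-, -, hzC⟩ := mem_C3_self hT
  refine ⟨{ toFun := fun g => if (g : G) ∈ M3 x y z then 1 else odd
            map_one' := if_pos (one_mem _)
            map_mul' := fun g k => ?_ }, fun g => ⟨fun hg => if_pos hg, fun hg => if_neg hg⟩⟩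
  by_cases hg : (g : G) ∈ M3 x y z
  · rw [if_pos hg, one_mul]
    exact if_congr ((M3 x y z).mul_mem_cancel_left hg) rfl rfl
  · by_cases hk : (k : G) ∈ M3 x y z
    · rw [if_pos hk, mul_one]
      exact if_congr ((M3 x y z).mul_mem_cancel_right hk) rfl rfl
    · rw [if_neg hg, if_neg hk, if_pos]
      · decide
      · have hgk := mul_mem ((hs g g.2).resolve_left hg) ((hs k k.2).resolve_left hk)
        have hzg : Commute z (g : G) := (mem_C3.1 g.2).2.2.symm
        rwa [hzg.eq, mul_assoc (g : G) z, ← mul_assoc z z, mul_self h.S.cls.1 hT.2.2.1.1, one_mul] at hgk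

/-- A common neighbour of one triple is inside the derived group exactly when all are. -/
theorem M24Data.uniform {d : G} (h : M24Data D d) {x y z w x' y' z' w' : G} (hT : Tri D x y z)
    (hw : w ∈ link D x ∩ link D y ∩ link D z) (hm : w ∈ M3 x y z) (hT' : Tri D x' y' z')
    (hw' : w' ∈ link D x' ∩ link D y' ∩ link D z') : w' ∈ M3 x' y' z' := by
  have hn := h.S.noCentral h.mem (pair_of_typeM23_img h.hX)
  obtain ⟨d', hd', hpair', -, -⟩ := CfsgLib.FischerCent.imgData_of_typeM23 h.SX h.hX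
  obtain ⟨r, hr, -⟩ := hpair'
  obtain ⟨u, hu, rfl⟩ := exists_toImg hd'
  obtain ⟨v, hv, rfl⟩ := exists_toImg hr.1
  have hvu : v ∈ link D u :=
    ⟨hv.1, fun e => hr.2.1 (by subst e; rfl), commute_of_toImg h.S.cls.1 hu hv hr.2.2⟩
  have hT₀ : Tri D u v d := ⟨hu.1, hvu, link_symm' h.mem hu, link_symm' h.mem hv⟩
  obtain ⟨-, -, htr, -⟩ := triple_img h.S h.lines h.mem h.SX h.hX h.cen hu hv hvu
  obtain ⟨g, rfl, rfl, rfl⟩ := h.S.exists_conj_triple h.mem (pair_of_typeM23_img h.hX) h.SX hT₀.1 hT₀.2.1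
    hT₀.2.2.1 hT₀.2.2.2 hT.1 hT.2.1 hT.2.2.1 hT.2.2.2
  obtain ⟨g', rfl, rfl, rfl⟩ := h.S.exists_conj_triple h.mem (pair_of_typeM23_img h.hX) h.SX hT₀.1 hT₀.2.1
    hT₀.2.2.1 hT₀.2.2.2 hT'.1 hT'.2.1 hT'.2.2.1 hT'.2.2.2
  have back : ∀ (k : G) {e w : G}, w ∈ link D (k * e * k⁻¹) → k⁻¹ * w * k ∈ link D e := by
    intro k e w hwl
    have := link_conj_mem h.S.cls k⁻¹ hwl
    rwa [show k⁻¹ * (k * e * k⁻¹) * k⁻¹⁻¹ = e by group, inv_inv] at this
  obtain ⟨k, hk, hkw⟩ := htr (g⁻¹ * w * g) (g'⁻¹ * w' * g') ⟨⟨back g hw.1.1, back g hw.1.2⟩, back g hw.2⟩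
    ⟨⟨back g' hw'.1.1, back g' hw'.1.2⟩, back g' hw'.2⟩
  rw [← M3_map] at hm
  obtain ⟨m, hm', e⟩ := hm
  rw [← M3_map]
  refine ⟨k * m * k⁻¹, M3_conj_mem hk hm', ?_⟩
  show g' * (k * m * k⁻¹) * g'⁻¹ = w'
  rw [show m = g⁻¹ * w * g from by
    rw [show w = g * m * g⁻¹ from e.symm]; group, hkw]
  group

/-- Some triple has common neighbours, and none lies in the derived group. -/
theorem M24Data.quad {d : G} (h : M24Data D d) :
    (∀ x y z w, Tri D x y z → w ∈ link D x ∩ link D y ∩ link D z → w ∉ M3 x y z) ∧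
    ∃ x y z w, Tri D x y z ∧ w ∈ link D x ∩ link D y ∩ link D z := by
  classical
  have hset := h.S.cls.1
  have hn := h.S.noCentral h.mem (pair_of_typeM23_img h.hX)
  obtain ⟨d', hd', hpair', SY, hY⟩ := CfsgLib.FischerCent.imgData_of_typeM23 h.SX h.hX
  obtain ⟨u', hu', -⟩ := id hpair'
  have hPX : ∀ p ∈ img D d, ∀ q ∈ link (img D d) p, PairTwinFree (img D d) p q := fun p hp q hq =>
    h.SX.pairTwinFree_all hd' hu' (h.SX.pairTwinFree_of_img hd' hu' hpair'
      (SY.linkTwinFree_of_typeM22 hY _ (toImg_mem hu'))) hp hq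
  obtain ⟨r₀, hr₀, P, Q, R, A, B, C, hm, hA, hprod⟩ :=
    exists_six_commute h.SX (h.SX.good_of_typeM23 h.hX).lines hPX hd' SY hY
  obtain ⟨x₀, hx₀, rfl⟩ := exists_toImg hd'
  obtain ⟨v, hv, rfl⟩ := exists_toImg hr₀.1
  have lift : ∀ X ∈ [P, Q, R, A, B, C], ∃ (s : G) (hs : s ∈ link D d), toImg D d hs = X :=
    fun X hX' => exists_toImg (hm X hX').1.1
  obtain ⟨p, hp, rfl⟩ := lift P (by simp)
  obtain ⟨q, hq, rfl⟩ := lift Q (by simp)
  obtain ⟨r, hr, rfl⟩ := lift R (by simp)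
  obtain ⟨a, ha, rfl⟩ := lift A (by simp)
  obtain ⟨b, hb, rfl⟩ := lift B (by simp)
  obtain ⟨c, hc, rfl⟩ := lift C (by simp)
  have ne : ∀ {s t} {hs : s ∈ link D d} {ht : t ∈ link D d}, toImg D d hs ≠ toImg D d ht → s ≠ t :=
    fun hne e => hne (by subst e; rfl)
  have hlk : ∀ {s t} {hs : s ∈ link D d} {ht : t ∈ link D d},
      toImg D d hs ∈ link (img D d) (toImg D d ht) → s ∈ link D t := fun {s t hs ht} hl =>
    ⟨hs.1, ne hl.2.1, commute_of_toImg hset ht hs hl.2.2⟩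
  have hvx : v ∈ link D x₀ := hlk hr₀
  have hsix : ∀ s ∈ [p, q, r, c, b, a], s ∈ link D d ∧ s ∈ link D x₀ ∧ s ∈ link D v ∧ Commute a s := by
    intro s hs
    simp only [List.mem_cons, List.not_mem_nil, or_false] at hs
    rcases hs with rfl | rfl | rfl | rfl | rfl | rfl
    all_goals
      refine ⟨by assumption, hlk (hm (toImg D d (by assumption)) (by simp)).1,
        hlk (hm (toImg D d (by assumption)) (by simp)).2, ?_⟩
      exact commute_of_toImg hset ha (by assumption) (hA _ (by simp))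
  obtain ⟨-, hax, hav, -⟩ := hsix a (by simp)
  have hxd : d ∈ link D x₀ := link_symm' h.mem hx₀
  have T1 : Tri D x₀ v d := ⟨hx₀.1, hvx, hxd, link_symm' h.mem hv⟩
  have hwq : a ∈ link D x₀ ∩ link D v ∩ link D d := ⟨⟨hax, hav⟩, ha⟩
  refine ⟨fun x y z w hT hw hwm => ?_, x₀, v, d, a, T1, hwq⟩
  -- every common neighbour lies inside
  have heven : ∀ x' y' z' w', Tri D x' y' z' → w' ∈ link D x' ∩ link D y' ∩ link D z' → w' ∈ M3 x' y' z' :=
    fun x' y' z' w' hT' hw' => h.uniform hT hw hwm hT' hw'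
  -- the relation
  obtain ⟨ε, hε, hrel⟩ : ∃ ε, (ε = 1 ∨ ε = d) ∧ ε * (x₀ * (p * (q * (r * (c * (b * a)))))) = 1 := by
    have hmemH : x₀ * (p * (q * (r * (c * (b * a))))) ∈ closure (link D d) :=
      mul_mem (subset_closure hx₀) (mul_mem (subset_closure hp) (mul_mem (subset_closure hq)
        (mul_mem (subset_closure hr) (mul_mem (subset_closure hc) (mul_mem (subset_closure hb)
          (subset_closure ha))))))
    have hz : (⟨_, hmemH⟩ : ↥(closure (link D d))) ∈ center ↥(closure (link D d)) := by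
      rw [← QuotientGroup.eq_one_iff]
      show toImg D d hx₀ * (toImg D d hp * (toImg D d hq * (toImg D d hr * (toImg D d hc *
        (toImg D d hb * toImg D d ha))))) = 1
      rw [show toImg D d hp * (toImg D d hq * (toImg D d hr * (toImg D d hc * (toImg D d hb * toImg D d ha)))) =
        toImg D d hx₀ from by rw [hprod]; simp only [mul_assoc]]
      exact mul_self h.SX.cls.1 (toImg_mem hx₀)
    rcases CfsgLib.FischerUnique.center_link_le h.S h.lines h.mem hx₀ hz with e | e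
    · exact ⟨1, Or.inl rfl, by rw [one_mul]; exact e⟩
    · exact ⟨d, Or.inr rfl, by
        rw [show x₀ * (p * (q * (r * (c * (b * a))))) = d from e]; exact mul_self hset h.mem⟩
  -- evaluation
  let E : G → G → C2 := fun s t => if s = t then odd else 1
  let P' : G → C2 := fun t => ([x₀, p, q, r, c, b, a].map fun s => E s t).prod
  have eval : ∀ {x y z : G}, Tri D x y z →
      (∀ s ∈ [x₀, p, q, r, c, b, a], s ∈ D ∧ Commute s x ∧ Commute s y ∧ Commute s z) →
      (ε = d → Commute d x ∧ Commute d y ∧ Commute d z) →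
      (if ε = d then E d x * E d y * E d z else 1) * (P' x * P' y * P' z) = 1 := by
    intro x y z hT' hall hεc
    obtain ⟨ψ, hψ⟩ := h.exists_char hT'
    obtain ⟨-, nx, ny, nz⟩ := h.tri hT'
    have hval : ∀ s, s ∈ D → ∀ hs : s ∈ C3 x y z, ψ ⟨s, hs⟩ = E s x * E s y * E s z := by
      intro s hsD hs
      obtain ⟨cx, cy, cz⟩ := mem_C3.1 hs
      by_cases ex : s = x
      · subst ex
        simp only [E, if_neg hT'.2.1.2.1.symm, if_neg hT'.2.2.1.2.1.symm, mul_one, if_true]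
        exact (hψ ⟨s, hs⟩).2 nx
      by_cases ey : s = y
      · subst ey
        simp only [E, if_neg ex, if_neg hT'.2.2.2.2.1.symm, one_mul, mul_one, if_true]
        exact (hψ ⟨s, hs⟩).2 ny
      by_cases ez : s = z
      · subst ez
        simp only [E, if_neg ex, if_neg ey, one_mul, if_true]
        exact (hψ ⟨s, hs⟩).2 nz
      simp only [E, if_neg ex, if_neg ey, if_neg ez, one_mul]
      exact (hψ ⟨s, hs⟩).1 (heven x y z s hT' ⟨⟨⟨hsD, ex, cx.symm⟩, ⟨hsD, ey, cy.symm⟩⟩, ⟨hsD, ez, cz.symm⟩⟩)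
    have hlist : ∀ l : List G, (∀ s ∈ l, s ∈ D ∧ s ∈ C3 x y z) → ∃ hl : l.prod ∈ C3 x y z,
        ψ ⟨l.prod, hl⟩ = (l.map fun s => E s x).prod * (l.map fun s => E s y).prod *
          (l.map fun s => E s z).prod := by
      intro l
      induction l with
      | nil => exact fun _ => ⟨one_mem _, (map_one ψ).trans (by simp)⟩
      | cons s l ih =>
        intro hl
        obtain ⟨hlp, he⟩ := ih fun t ht => hl t (List.mem_cons_of_mem _ ht)
        obtain ⟨hsD, hsC⟩ := hl s List.mem_cons_self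
        refine ⟨by rw [List.prod_cons]; exact mul_mem hsC hlp, ?_⟩
        have e1 : ψ ⟨(s :: l).prod, by rw [List.prod_cons]; exact mul_mem hsC hlp⟩ =
            ψ ⟨s, hsC⟩ * ψ ⟨l.prod, hlp⟩ := by
          rw [← map_mul]; exact congrArg ψ (Subtype.ext List.prod_cons)
        rw [e1, hval s hsD hsC, he]
        simp only [List.map_cons, List.prod_cons]
        ac_rfl
    obtain ⟨hl, he⟩ := hlist [x₀, p, q, r, c, b, a] fun s hs => ⟨(hall s hs).1, mem_C3.2 (hall s hs).2⟩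
    have hεC : ε ∈ C3 x y z := by
      rcases hε with e | e
      · exact e ▸ one_mem _
      · exact e ▸ mem_C3.2 (hεc e)
    have hεψ : ψ ⟨ε, hεC⟩ = if ε = d then E d x * E d y * E d z else 1 := by
      by_cases e : ε = d
      · rw [if_pos e]; subst e; exact hval ε h.mem hεC
      · rw [if_neg e]
        obtain rfl := hε.resolve_right e
        exact map_one ψ
    have hone : ψ (⟨ε, hεC⟩ * ⟨_, hl⟩) = 1 := by
      rw [← map_one ψ]
      refine congrArg ψ (Subtype.ext ?_)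
      show ε * [x₀, p, q, r, c, b, a].prod = 1
      simpa using hrel
    rw [map_mul, hεψ, he] at hone
    exact hone
  -- members of the relation
  have hl7 : ∀ s ∈ [x₀, p, q, r, c, b, a],
      s ∈ D ∧ Commute s x₀ ∧ Commute s v ∧ Commute s d ∧ Commute s a ∧ s ≠ d ∧ s ≠ v := by
    intro s hs
    rcases List.mem_cons.1 hs with rfl | hs
    · exact ⟨hx₀.1, Commute.refl _, hvx.2.2, hxd.2.2, hax.2.2, hx₀.2.1, hvx.2.1.symm⟩
    · obtain ⟨h1, h2, h3, h4⟩ := hsix s hs
      exact ⟨h1.1, h2.2.2.symm, h3.2.2.symm, h1.2.2.symm, h4.symm, h1.2.1, h3.2.1⟩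
  have hP0 : ∀ t, (∀ s ∈ [x₀, p, q, r, c, b, a], s ≠ t) → P' t = 1 := fun t ht => by
    refine List.prod_eq_one fun e he => ?_
    obtain ⟨s, hs, rfl⟩ := List.mem_map.1 he
    exact if_neg (ht s hs)
  have hPd : P' d = 1 := hP0 d fun s hs => (hl7 s hs).2.2.2.2.2.1
  have hPv : P' v = 1 := hP0 v fun s hs => (hl7 s hs).2.2.2.2.2.2
  have hPx : P' x₀ = odd := by
    have hz : ∀ s ∈ [p, q, r, c, b, a], E s x₀ = 1 := fun s hs => if_neg (hsix s hs).2.1.2.1
    show ([x₀, p, q, r, c, b, a].map fun s => E s x₀).prod = odd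
    rw [List.map_cons, List.prod_cons, List.prod_eq_one (fun e he => by
      obtain ⟨s, hs, rfl⟩ := List.mem_map.1 he
      exact hz s hs), mul_one]
    exact if_pos rfl
  have hdx : E d x₀ = 1 := if_neg hx₀.2.1.symm
  have hdv : E d v = 1 := if_neg hv.2.1.symm
  have hda : E d a = 1 := if_neg ha.2.1.symm
  have hdd : E d d = odd := if_pos rfl
  have r1 := eval T1 (fun s hs => ⟨(hl7 s hs).1, (hl7 s hs).2.1, (hl7 s hs).2.2.1, (hl7 s hs).2.2.2.1⟩)
    fun _ => ⟨hxd.2.2.symm, hv.2.2, Commute.refl d⟩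
  rw [hPx, hPv, hPd, hdx, hdv, hdd] at r1
  have hεd : ε = d := by
    by_contra e
    rw [if_neg e] at r1
    exact absurd r1 (by decide)
  have T2 : Tri D x₀ v a := ⟨hx₀.1, hvx, hax, hav⟩
  have r2 := eval T2 (fun s hs => ⟨(hl7 s hs).1, (hl7 s hs).2.1, (hl7 s hs).2.2.1, (hl7 s hs).2.2.2.2.1⟩)
    fun _ => ⟨hxd.2.2.symm, hv.2.2, ha.2.2⟩
  rw [hPx, hPv, if_pos hεd, hdx, hdv, hda] at r2
  have T3 : Tri D x₀ d a := ⟨hx₀.1, hxd, hax, ha⟩
  have r3 := eval T3 (fun s hs => ⟨(hl7 s hs).1, (hl7 s hs).2.1, (hl7 s hs).2.2.2.1, (hl7 s hs).2.2.2.2.1⟩)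
    fun _ => ⟨hxd.2.2.symm, Commute.refl d, ha.2.2⟩
  rw [hPx, hPd, if_pos hεd, hdx, hdd, hda] at r3
  revert r2 r3
  generalize P' a = t
  revert t
  decide

/-- The common neighbours generate the centraliser of a triple, and they exist. -/
theorem M24Data.C3_eq {d : G} (h : M24Data D d) {x y z : G} (hT : Tri D x y z) :
    (link D x ∩ link D y ∩ link D z).Nonempty ∧
      C3 x y z = closure (link D x ∩ link D y ∩ link D z) := by
  have hset := h.S.cls.1
  obtain ⟨hquad, x₁, y₁, z₁, w₁, hT₁, hw₁⟩ := h.quad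
  have hpair := pair_of_typeM23_img h.hX
  have hW : (link D x ∩ link D y ∩ link D z).Nonempty := by
    obtain ⟨g, rfl, rfl, rfl⟩ := h.S.exists_conj_triple h.mem hpair h.SX hT₁.1 hT₁.2.1 hT₁.2.2.1 hT₁.2.2.2
      hT.1 hT.2.1 hT.2.2.1 hT.2.2.2
    exact ⟨g * w₁ * g⁻¹, ⟨link_conj_mem h.S.cls g hw₁.1.1, link_conj_mem h.S.cls g hw₁.1.2⟩,
      link_conj_mem h.S.cls g hw₁.2⟩
  refine ⟨hW, ?_⟩
  have hle : closure (link D x ∩ link D y ∩ link D z) ≤ C3 x y z := (closure_le _).2 fun s hs =>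
    mem_C3.2 ⟨hs.1.1.2.2.symm, hs.1.2.2.2.symm, hs.2.2.2.symm⟩
  refine le_antisymm ?_ hle
  obtain ⟨d', hd', hpair', -, -⟩ := CfsgLib.FischerCent.imgData_of_typeM23 h.SX h.hX
  obtain ⟨r', hr', -⟩ := hpair'
  obtain ⟨a, ha, rfl⟩ := exists_toImg hd'
  obtain ⟨b, hb, rfl⟩ := exists_toImg hr'.1
  have hba : b ∈ link D a := ⟨hb.1, fun e => hr'.2.1 (by subst e; rfl), commute_of_toImg hset ha hb hr'.2.2⟩
  have hT₀ : Tri D a b d := ⟨ha.1, hba, link_symm' h.mem ha, link_symm' h.mem hb⟩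
  suffices hbase : C3 a b d ≤ closure (link D a ∩ link D b ∩ link D d) by
    obtain ⟨g, rfl, rfl, rfl⟩ := h.S.exists_conj_triple h.mem hpair h.SX hT₀.1 hT₀.2.1 hT₀.2.2.1 hT₀.2.2.2
      hT.1 hT.2.1 hT.2.2.1 hT.2.2.2
    rw [← C3_map]
    refine (map_mono hbase).trans ?_
    rw [MonoidHom.map_closure]
    refine closure_mono ?_
    rintro _ ⟨s, hs, rfl⟩
    exact ⟨⟨link_conj_mem h.S.cls g hs.1.1, link_conj_mem h.S.cls g hs.1.2⟩, link_conj_mem h.S.cls g hs.2⟩
  obtain ⟨hsplit, -, -, hdM⟩ := h.tri hT₀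
  obtain ⟨w, hw⟩ : (link D a ∩ link D b ∩ link D d).Nonempty := by
    obtain ⟨g, rfl, rfl, rfl⟩ := h.S.exists_conj_triple h.mem hpair h.SX hT₁.1 hT₁.2.1 hT₁.2.2.1 hT₁.2.2.2
      hT₀.1 hT₀.2.1 hT₀.2.2.1 hT₀.2.2.2
    exact ⟨g * w₁ * g⁻¹, ⟨link_conj_mem h.S.cls g hw₁.1.1, link_conj_mem h.S.cls g hw₁.1.2⟩,
      link_conj_mem h.S.cls g hw₁.2⟩
  set C := C3 a b d
  obtain ⟨-, -, -, F, i1, i2, θ, -, hθ, hsimp, hker⟩ := triple_img h.S h.lines h.mem h.SX h.hX h.cen ha hb hba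
  set N := closure (link D a ∩ link D b ∩ link D d) with hN
  have hNC : N ≤ C := (closure_le _).2 fun s hs =>
    mem_C3.2 ⟨hs.1.1.2.2.symm, hs.1.2.2.2.symm, hs.2.2.2.symm⟩
  have hnorm : (N.subgroupOf C).Normal := ⟨fun n hn k => by
    have hle : N ≤ N.comap (MulAut.conj (k : G)).toMonoidHom := by
      rw [hN]
      refine (closure_le _).2 fun s hs => subset_closure ?_
      obtain ⟨c1, c2, c3⟩ := mem_C3.1 k.2
      have l1 := link_conj_mem h.S.cls (k : G) hs.1.1
      have l2 := link_conj_mem h.S.cls (k : G) hs.1.2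
      have l3 := link_conj_mem h.S.cls (k : G) hs.2
      rw [conj_self_of_commute c1] at l1
      rw [conj_self_of_commute c2] at l2
      rw [conj_self_of_commute c3] at l3
      exact ⟨⟨l1, l2⟩, l3⟩
    exact hle hn⟩
  have hwC : w ∈ C := hNC (subset_closure hw)
  have hcl : ∀ s ∈ closure ({a, b, d} : Set G), ∀ k ∈ C, Commute k s := by
    intro s hs k hk
    refine (mem_centralizer_singleton_iff.1 (((closure_le (centralizer ({k} : Set G))).2 ?_) hs)).symm
    rintro t (rfl | rfl | rfl)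
    · exact mem_centralizer_singleton_iff.2 (mem_C3.1 hk).1.eq.symm
    · exact mem_centralizer_singleton_iff.2 (mem_C3.1 hk).2.1.eq.symm
    · exact mem_centralizer_singleton_iff.2 (mem_C3.1 hk).2.2.eq.symm
  have hne : θ ⟨w, hwC⟩ ≠ 1 := by
    intro e
    have hwE := hker _ e
    obtain ⟨w', hw', hcw⟩ := h.S.noCentral h.mem (pair_of_typeM23_img h.hX) w hw.2
    -- `w` would be a product of the three members
    have habd : ∀ s ∈ closure ({a, b, d} : Set G),
        s ∈ ({1, a, b, d, a * b, a * d, b * d, a * b * d} : Set G) := by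
      have hdd := mul_self hset h.mem
      have haa := mul_self hset ha.1
      have hbb := mul_self hset hb.1
      have cab : Commute a b := hba.2.2
      have cad : Commute a d := ha.2.2.symm
      have cbd : Commute b d := hb.2.2.symm
      intro s hs
      have key : ∀ t, t ∈ ({1, a, b, d, a * b, a * d, b * d, a * b * d} : Set G) →
          a * t ∈ ({1, a, b, d, a * b, a * d, b * d, a * b * d} : Set G) ∧
          b * t ∈ ({1, a, b, d, a * b, a * d, b * d, a * b * d} : Set G) ∧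
          d * t ∈ ({1, a, b, d, a * b, a * d, b * d, a * b * d} : Set G) := by
        have a2 : ∀ t, a * (a * t) = t := fun t => by rw [← mul_assoc, haa, one_mul]
        have b2 : ∀ t, b * (b * t) = t := fun t => by rw [← mul_assoc, hbb, one_mul]
        have d2 : ∀ t, d * (d * t) = t := fun t => by rw [← mul_assoc, hdd, one_mul]
        have ba : ∀ t, b * (a * t) = a * (b * t) := fun t => by rw [← mul_assoc, ← cab.eq, mul_assoc]
        have da : ∀ t, d * (a * t) = a * (d * t) := fun t => by rw [← mul_assoc, ← cad.eq, mul_assoc]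
        have db : ∀ t, d * (b * t) = b * (d * t) := fun t => by rw [← mul_assoc, ← cbd.eq, mul_assoc]
        intro t ht
        simp only [Set.mem_insert_iff, Set.mem_singleton_iff] at ht
        rcases ht with rfl | rfl | rfl | rfl | rfl | rfl | rfl | rfl <;>
          simp [mul_assoc, a2, b2, d2, ba, da, db, haa, hbb, hdd, ← cab.eq, ← cad.eq, ← cbd.eq]
      refine closure_induction_left (p := fun s _ => s ∈ _) (by simp) ?_ ?_ hs
      · rintro g (rfl | rfl | rfl) t - ht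
        exacts [(key t ht).1, (key t ht).2.1, (key t ht).2.2]
      · rintro g (rfl | rfl | rfl) t - ht
        · rw [inv_eq hset ha.1]; exact (key t ht).1
        · rw [inv_eq hset hb.1]; exact (key t ht).2.1
        · rw [inv_eq hset h.mem]; exact (key t ht).2.2
    obtain ⟨ψ, hψ⟩ := h.exists_char hT₀
    obtain ⟨-, naM, nbM, ndM⟩ := h.tri hT₀
    obtain ⟨haC, hbC, hdC⟩ := mem_C3_self hT₀
    have hwo : ψ ⟨w, hwC⟩ = odd := (hψ _).2 (hquad _ _ _ _ hT₀ hw)
    have hao : ψ ⟨a, haC⟩ = odd := (hψ _).2 naM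
    have hbo : ψ ⟨b, hbC⟩ = odd := (hψ _).2 nbM
    have hdo : ψ ⟨d, hdC⟩ = odd := (hψ _).2 ndM
    have two : ∀ {s t} (hs : s ∈ C) (ht : t ∈ C), ψ ⟨s, hs⟩ = odd → ψ ⟨t, ht⟩ = odd → w = s * t → False := by
      intro s t hs ht e1 e2 e3
      have : ψ ⟨w, hwC⟩ = ψ ⟨s, hs⟩ * ψ ⟨t, ht⟩ := by
        rw [← map_mul]; exact congrArg ψ (Subtype.ext e3)
      rw [hwo, e1, e2] at this
      exact absurd this (by decide)
    have hh := habd w hwE
    simp only [Set.mem_insert_iff, Set.mem_singleton_iff] at hh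
    rcases hh with e | e | e | e | e | e | e | e
    · exact CfsgLib.ThreeTrans.ne_one hset hw.2.1 e
    · exact hw.1.1.2.1 e
    · exact hw.1.2.2.1 e
    · exact hw.2.2.1 e
    · exact two haC hbC hao hbo e
    · exact two haC hdC hao hdo e
    · exact two hbC hdC hbo hdo e
    · have e' : w * d = a * b := by
        rw [e, mul_assoc, mul_self hset h.mem, mul_one]
      rcases h.S.pair_unique hw.2.1 h.mem ha.1 hb.1 hw.2.2.1 hba.2.1.symm hw.2.2.2.symm hba.2.2 e' with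
        ⟨e1, -⟩ | ⟨e1, -⟩
      · exact hw.1.1.2.1 e1
      · exact hw.1.2.2.1 e1
  haveI := hsimp
  have htop : (N.subgroupOf C).map θ = ⊤ := by
    haveI := hnorm.map θ hθ
    refine (IsSimpleGroup.eq_bot_or_eq_top_of_normal _ inferInstance).resolve_left fun hb' => hne ?_
    rw [← mem_bot, ← hb']
    exact ⟨⟨w, hwC⟩, mem_subgroupOf.2 (subset_closure hw), rfl⟩
  have hdec : ∀ k : ↥C, ∃ n : ↥C, (n : G) ∈ N ∧ ((k * n⁻¹ : ↥C) : G) ∈ closure ({a, b, d} : Set G) := by
    intro k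
    obtain ⟨n, hn, e⟩ := (htop ▸ mem_top _ : θ k ∈ (N.subgroupOf C).map θ)
    exact ⟨n, hn, hker _ (by rw [map_mul, map_inv, e, mul_inv_cancel])⟩
  have hMN : M3 a b d ≤ N := by
    refine commutator_le.2 fun s hs t ht => ?_
    obtain ⟨n, hn, hz⟩ := hdec ⟨s, hs⟩
    obtain ⟨m, hm, hz'⟩ := hdec ⟨t, ht⟩
    simp only [Subgroup.coe_mul, Subgroup.coe_inv] at hz hz'
    set z₁ := s * (n : G)⁻¹
    set z₂ := t * (m : G)⁻¹
    have es : s = z₁ * n := by simp [z₁]
    have et : t = z₂ * m := by simp [z₂]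
    have cz : ∀ k ∈ C, Commute k z₁ ∧ Commute k z₂ := fun k hk => ⟨hcl _ hz k hk, hcl _ hz' k hk⟩
    have hz2C : z₂ ∈ C := mul_mem ht (inv_mem m.2)
    have e : ⁅s, t⁆ = ⁅(n : G), (m : G)⁆ := by
      rw [es, et]
      have c1 : Commute z₁ ((n : G) * (z₂ * m) * (n : G)⁻¹) :=
        ((cz _ (mul_mem (mul_mem n.2 (mul_mem hz2C m.2)) (inv_mem n.2))).1).symm
      have c2 : Commute z₂ ((n : G)) := (cz _ n.2).2.symm
      have c3 : Commute z₂ ((n : G) * m * (n : G)⁻¹) :=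
        ((cz _ (mul_mem (mul_mem n.2 m.2) (inv_mem n.2))).2).symm
      calc ⁅z₁ * n, z₂ * m⁆ = z₁ * ((n : G) * (z₂ * m) * (n : G)⁻¹) * z₁⁻¹ * (z₂ * m)⁻¹ := by
            rw [commutatorElement_def]; group
        _ = (n : G) * z₂ * m * (n : G)⁻¹ * (m : G)⁻¹ * z₂⁻¹ := by rw [c1.eq]; group
        _ = z₂ * ((n : G) * m * (n : G)⁻¹) * (m : G)⁻¹ * z₂⁻¹ := by rw [← c2.eq]; group
        _ = ((n : G) * m * (n : G)⁻¹) * (z₂ * (m : G)⁻¹ * z₂⁻¹) := by rw [c3.eq]; group
        _ = _ := by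
          rw [commutatorElement_def, conj_self_of_commute ((cz _ (inv_mem m.2)).2.symm)]
    rw [e, commutatorElement_def]
    exact mul_mem (mul_mem (mul_mem hn hm) (inv_mem hn)) (inv_mem hm)
  intro k hk
  have hwM := hquad _ _ _ _ hT₀ hw
  rcases hsplit k hk with hkM | hkM
  · exact hMN hkM
  · rcases hsplit w hwC with h1 | h1
    · exact absurd h1 hwM
    · have := mul_mem (subset_closure hw : w ∈ N) (hMN (mul_mem (inv_mem h1) hkM))
      rwa [mul_inv_rev, inv_eq hset h.mem, inv_eq hset hw.2.1, mul_assoc w, ← mul_assoc d d,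
        mul_self hset h.mem, one_mul, ← mul_assoc, mul_self hset hw.2.1, one_mul] at this

end CfsgLib.FischerTriple
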