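import Cfsg.Agent.Lib.FischerTriple.Core
import Cfsg.Agent.Lib.U6Cover.Mult
import Cfsg.Agent.Lib.FischerM24.Parity

/-!
In type M(24) the derived group of the common centraliser of three pairwise commuting members has index two
and misses each of the three, as that centraliser cannot be a perfect extension of `PSU(6, 2)`.
-/

set_option autoImplicit false

namespace CfsgLib.FischerTriple

open Subgroup
open CfsgLib.ThreeTrans (link mul_self inv_eq conj_self_of_commute)
open CfsgLib.FischerType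
open CfsgLib.FischerM24 (C2 odd)

variable {G : Type*} [Group G] {D : Set G}

/-- Three pairwise commuting different members. -/
def Tri (D : Set G) (x y z : G) : Prop := x ∈ D ∧ y ∈ link D x ∧ z ∈ link D x ∧ z ∈ link D y

theorem link_symm' {x y : G} (hx : x ∈ D) (h : y ∈ link D x) : x ∈ link D y :=
  ⟨hx, h.2.1.symm, h.2.2.symm⟩

theorem Tri.rot {x y z : G} (h : Tri D x y z) : Tri D y z x :=
  ⟨h.2.1.1, h.2.2.2, link_symm' h.1 h.2.1, link_symm' h.1 h.2.2.1⟩

theorem C3_rot (x y z : G) : C3 x y z = C3 y z x := by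
  refine Subgroup.ext fun g => ?_
  rw [mem_C3, mem_C3]
  exact ⟨fun ⟨a, b, c⟩ => ⟨b, c, a⟩, fun ⟨b, c, a⟩ => ⟨a, b, c⟩⟩

theorem M3_rot (x y z : G) : M3 x y z = M3 y z x := by rw [M3, C3_rot]; rfl

theorem M3_conj_mem {x y z k m : G} (hk : k ∈ C3 x y z) (hm : m ∈ M3 x y z) :
    k * m * k⁻¹ ∈ M3 x y z := by
  have h := M3_map k x y z
  rw [conj_self_of_commute (mem_C3.1 hk).1, conj_self_of_commute (mem_C3.1 hk).2.1,
    conj_self_of_commute (mem_C3.1 hk).2.2] at h
  exact h ▸ ⟨m, hm, rfl⟩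

theorem mem_C3_self {x y z : G} (h : Tri D x y z) : x ∈ C3 x y z ∧ y ∈ C3 x y z ∧ z ∈ C3 x y z :=
  ⟨mem_C3.2 ⟨Commute.refl x, h.2.1.2.2, h.2.2.1.2.2⟩,
    mem_C3.2 ⟨h.2.1.2.2.symm, Commute.refl y, h.2.2.2.2.2⟩,
    mem_C3.2 ⟨h.2.2.1.2.2.symm, h.2.2.2.2.2.symm, Commute.refl z⟩⟩

variable [Finite G]

/-- The facts about the centraliser of a triple in the image of a link. -/
theorem triple_img (S : Setting D) (hl : HasLines D) {d : G} (hd : d ∈ D) (SX : Setting (img D d))
    (hX : Cfsg.IsOfTypeM23 (Quot D d) (img D d)) (hcenD : centralizer ({d} : Set G) = closure (link D d))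
    {a b : G} (ha : a ∈ link D d) (hb : b ∈ link D d) (hba : b ∈ link D a) :
    (∀ x ∈ C3 a b d, x ∈ M3 a b d ∨ d * x ∈ M3 a b d) ∧ d ∉ M3 a b d ∧
    (∀ w w' : G, w ∈ link D a ∩ link D b ∩ link D d → w' ∈ link D a ∩ link D b ∩ link D d →
      ∃ k ∈ C3 a b d, k * w * k⁻¹ = w') ∧
    ∃ (F : Type) (_ : Field F) (_ : Fintype F) (θ : ↥(C3 a b d) →* Cfsg.PSU 6 F 2),
      Fintype.card F = 2 ^ 2 ∧ Function.Surjective θ ∧ IsSimpleGroup (Cfsg.PSU 6 F 2) ∧
      ∀ x, θ x = 1 → (x : G) ∈ closure ({a, b, d} : Set G) := by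
  classical
  have hset := S.cls.1
  have hn := S.noCentral hd (pair_of_typeM23_img hX)
  set H := closure (link D d) with hH
  set K := centralizer ({toImg D d ha, toImg D d hb} : Set (Quot D d)) with hK
  obtain ⟨d', hd', hpair', SY, hY⟩ := CfsgLib.FischerCent.imgData_of_typeM23 SX hX
  obtain ⟨u', hu', -⟩ := id hpair'
  have hPX : ∀ p ∈ img D d, ∀ q ∈ link (img D d) p, PairTwinFree (img D d) p q := fun p hp q hq =>
    SX.pairTwinFree_all hd' hu' (SX.pairTwinFree_of_img hd' hu' hpair'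
      (SY.linkTwinFree_of_typeM22 hY _ (toImg_mem hu'))) hp hq
  have hlk : ∀ {x y} (hx : x ∈ link D d) (hy : y ∈ link D d), y ∈ link D x →
      toImg D d hy ∈ link (img D d) (toImg D d hx) := fun hx hy h =>
    ⟨toImg_mem hy, fun e => h.2.1 (eq_of_toImg hset hn hy hx e), commute_toImg hx hy h.2.2⟩
  obtain ⟨hperf, hcen, F, i1, i2, hF, hsimp, ⟨eK⟩⟩ := CfsgLib.FischerPair.pair_centralizer SX
    (SX.good_of_typeM23 hX).lines hPX hd' SY hY
    (CfsgLib.FischerCent.centralizer_eq_of_typeM23 SX hX hd').le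
    (fun q hq => (CfsgLib.FischerCent.centralizer_eq_of_typeM22 SY hY hq).le) (toImg_mem ha) (hlk ha hb hba)
  rw [← hK] at hperf hcen hsimp eK
  set C := C3 a b d with hC
  set M := M3 a b d with hM
  have hCd : ∀ {x}, x ∈ C → Commute x d := fun hx => (mem_C3.1 hx).2.2
  have hT : Tri D d a b := ⟨hd, ha, hb, hba⟩
  obtain ⟨hdC, haC, hbC⟩ := mem_C3_self hT
  rw [C3_rot d a b] at hdC haC hbC
  have hCH : C ≤ H := fun x hx => hcenD ▸ mem_centralizer_singleton_iff.2 (hCd hx).eq
  let f : ↥C →* Quot D d := (QuotientGroup.mk' (center ↥H)).comp (Subgroup.inclusion hCH)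
  have hfK : ∀ x : ↥C, f x ∈ K := fun x => by
    refine mem_centralizer_iff.2 ?_
    rintro q (rfl | rfl)
    · exact (show Commute (⟨a, subset_closure ha⟩ : ↥H) (Subgroup.inclusion hCH x) from
        Subtype.ext (mem_C3.1 x.2).1.eq.symm).map (QuotientGroup.mk' _) |>.eq
    · exact (show Commute (⟨b, subset_closure hb⟩ : ↥H) (Subgroup.inclusion hCH x) from
        Subtype.ext (mem_C3.1 x.2).2.1.eq.symm).map (QuotientGroup.mk' _) |>.eq
  let φ : ↥C →* ↥K := f.codRestrict K hfK
  have key : ∀ {h : G} (hh : h ∈ H) {y z} (hy : y ∈ link D d) (hz : z ∈ link D d),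
      (QuotientGroup.mk (⟨h, hh⟩ : ↥H) : Quot D d) * toImg D d hy *
        (QuotientGroup.mk (⟨h, hh⟩ : ↥H) : Quot D d)⁻¹ = toImg D d hz → h * y * h⁻¹ = z := by
    intro h hh y z hy hz hc
    have hhd : Commute h d :=
      mem_centralizer_singleton_iff.1 (CfsgLib.FischerUnique.closure_link_le_centralizer hh)
    have hm : h * y * h⁻¹ ∈ link D d := by
      have := link_conj_mem S.cls h hy
      rwa [conj_self_of_commute hhd] at this
    exact eq_of_toImg hset hn hm hz ((CfsgLib.FischerPair.conj_mk hy ⟨h, hh⟩ hm).trans hc)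
  have hφ : Function.Surjective φ := by
    rintro ⟨q, hq⟩
    obtain ⟨⟨h, hh⟩, rfl⟩ := QuotientGroup.mk_surjective q
    have hhd : Commute h d :=
      mem_centralizer_singleton_iff.1 (CfsgLib.FischerUnique.closure_link_le_centralizer hh)
    refine ⟨⟨h, mem_C3.2 ⟨mul_inv_eq_iff_eq_mul.1 (key hh ha ha ?_),
      mul_inv_eq_iff_eq_mul.1 (key hh hb hb ?_), hhd⟩⟩, rfl⟩
    · exact conj_self_of_commute (show Commute _ _ from (mem_centralizer_iff.1 hq _ (Set.mem_insert _ _)).symm)
    · exact conj_self_of_commute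
        (show Commute _ _ from (mem_centralizer_iff.1 hq _ (Set.mem_insert_of_mem _ rfl)).symm)
  have hker : ∀ x : ↥C, f x = 1 → (x : G) = 1 ∨ (x : G) = d := fun x hx =>
    CfsgLib.FischerUnique.center_link_le S hl hd ha ((QuotientGroup.eq_one_iff _).1 hx)
  have hd2 : d * d = 1 := mul_self hset hd
  have hMeq : (commutator ↥C).map C.subtype = M := map_subtype_commutator C
  have hMimg : (commutator ↥C).map φ = ⊤ := by
    rw [_root_.commutator_def, Subgroup.map_commutator, Subgroup.map_top_of_surjective _ hφ,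
      ← _root_.commutator_def, hperf]
  have split : ∀ x ∈ C, x ∈ M ∨ d * x ∈ M := by
    intro x hx
    obtain ⟨m, hm, hmx⟩ : φ ⟨x, hx⟩ ∈ (commutator ↥C).map φ := by rw [hMimg]; exact mem_top _
    have hmM : (m : G) ∈ M := hMeq ▸ ⟨m, hm, rfl⟩
    have h1 : f (⟨x, hx⟩ * m⁻¹) = 1 := by
      rw [map_mul, map_inv, show f m = f ⟨x, hx⟩ from congrArg Subtype.val hmx, mul_inv_cancel]
    rcases hker _ h1 with h | h
    · exact Or.inl (mul_inv_eq_one.1 (show x * (m : G)⁻¹ = 1 from h) ▸ hmM)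
    · refine Or.inr ?_
      rw [mul_inv_eq_iff_eq_mul.1 (show x * (m : G)⁻¹ = d from h), ← mul_assoc, hd2, one_mul]
      exact hmM
  let θ : ↥C →* Cfsg.PSU 6 F 2 := eK.toMonoidHom.comp ((QuotientGroup.mk' _).comp φ)
  have hθ : Function.Surjective θ := eK.surjective.comp ((QuotientGroup.mk'_surjective _).comp hφ)
  have hcenK : ∀ x, θ x = 1 → (x : G) ∈ closure ({a, b, d} : Set G) := by
    intro x hx
    have hx' : φ x ∈ center ↥K := by
      rw [← QuotientGroup.eq_one_iff]
      exact eK.injective (hx.trans (map_one eK).symm)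
    have h2 : ∀ q ∈ closure ({toImg D d ha, toImg D d hb} : Set (Quot D d)),
        ∃ y : ↥C, f y = q ∧ (y : G) ∈ closure ({a, b, d} : Set G) := by
      intro q hq
      refine closure_induction ?_ ⟨1, map_one _, one_mem _⟩ (fun p q _ _ hp hq => ?_)
        (fun p _ hp => ?_) hq
      · rintro q (rfl | rfl)
        · exact ⟨⟨a, haC⟩, rfl, subset_closure (by simp)⟩
        · exact ⟨⟨b, hbC⟩, rfl, subset_closure (by simp)⟩
      · obtain ⟨y, rfl, hy⟩ := hp
        obtain ⟨z, rfl, hz⟩ := hq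
        exact ⟨y * z, map_mul _ _ _, mul_mem hy hz⟩
      · obtain ⟨y, rfl, hy⟩ := hp
        exact ⟨y⁻¹, map_inv _ _, inv_mem hy⟩
    obtain ⟨y, hy, hyc⟩ := h2 _ (hcen _ hx')
    have h3 : f (x * y⁻¹) = 1 := by rw [map_mul, map_inv, hy]; exact mul_inv_cancel _
    rcases hker _ h3 with h | h
    · rw [mul_inv_eq_one.1 (show (x : G) * (y : G)⁻¹ = 1 from h)]; exact hyc
    · rw [mul_inv_eq_iff_eq_mul.1 (show (x : G) * (y : G)⁻¹ = d from h)]
      exact mul_mem (subset_closure (by simp)) hyc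
  refine ⟨split, fun hdM => ?_, fun w w' hw hw' => ?_, F, i1, i2, θ, hF.trans (by norm_num), hθ, ?_, hcenK⟩
  · -- a perfect centraliser
    have hperfC : Group.IsPerfect ↥C := ⟨eq_top_iff.2 fun x _ => by
      have hxM : (x : G) ∈ M := by
        rcases split x x.2 with h | h
        · exact h
        · have := mul_mem hdM h; rwa [← mul_assoc, hd2, one_mul] at this
      obtain ⟨y, hy, hyx⟩ := hMeq.symm ▸ hxM
      exact (Subtype.ext hyx : y = x) ▸ hy⟩
    have hab2 : ∀ {s}, s ∈ D → s * s = 1 := fun hs => mul_self hset hs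
    have hcl : ∀ y ∈ closure ({a, b, d} : Set G), (∀ g ∈ C, Commute g y) ∧ y * y = 1 := by
      intro y hy
      refine closure_induction ?_ ⟨fun g _ => Commute.one_right g, one_mul 1⟩ ?_ ?_ hy
      · rintro s (rfl | rfl | rfl)
        · exact ⟨fun g hg => (mem_C3.1 hg).1, hab2 ha.1⟩
        · exact ⟨fun g hg => (mem_C3.1 hg).2.1, hab2 hb.1⟩
        · exact ⟨fun g hg => hCd hg, hab2 hd⟩
      · rintro p q hp - ⟨hp1, hp2⟩ ⟨hq1, hq2⟩
        refine ⟨fun g hg => (hp1 g hg).mul_right (hq1 g hg), ?_⟩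
        have hpC : p ∈ C := ((closure_le C).2 (by rintro s (rfl | rfl | rfl) <;> assumption)) hp
        rw [(show Commute q p from (hq1 p hpC).symm).mul_mul_mul_comm, hp2, hq2, one_mul]
      · rintro p - ⟨hp1, hp2⟩
        rw [inv_eq_of_mul_eq_one_left hp2]
        exact ⟨hp1, hp2⟩
    have hkc : θ.ker ≤ center ↥C := fun x hx => mem_center_iff.2 fun y =>
      Subtype.ext ((hcl _ (hcenK x (MonoidHom.mem_ker.1 hx))).1 y y.2).eq
    have hk2 : ∀ x ∈ θ.ker, x * x = 1 := fun x hx =>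
      Subtype.ext (hcl _ (hcenK x (MonoidHom.mem_ker.1 hx))).2
    have hle := CfsgLib.U6Cover.card_ker_le (hF.trans (by norm_num)) hperfC θ hθ hkc hk2
    have hmem : ∀ y ∈ closure ({a, b, d} : Set G), ∃ hy : y ∈ C, (⟨y, hy⟩ : ↥C) ∈ θ.ker := by
      intro y hy
      have hyC : y ∈ C := ((closure_le C).2 (by rintro s (rfl | rfl | rfl) <;> assumption)) hy
      refine ⟨hyC, ?_⟩
      have hc : φ ⟨y, hyC⟩ ∈ center ↥K := mem_center_iff.2 fun k => by
        obtain ⟨g, rfl⟩ := hφ k
        rw [← map_mul, ← map_mul]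
        exact congrArg φ (Subtype.ext ((hcl y hy).1 g g.2).eq)
      rw [MonoidHom.mem_ker]
      show eK (QuotientGroup.mk (φ ⟨y, hyC⟩)) = 1
      rw [(QuotientGroup.eq_one_iff _).2 hc, map_one]
    have hne : ∀ {s}, s ∈ D → s ≠ 1 := fun hs => CfsgLib.ThreeTrans.ne_one hset hs
    have hab : a ≠ b := hba.2.1.symm
    have h1ab : a * b ≠ 1 := fun h => hab ((eq_inv_of_mul_eq_one_left h).trans (inv_eq hset hb.1))
    have habd : a * b ≠ d := by
      intro h
      have he : toImg D d ha * toImg D d hb = 1 := by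
        rw [← QuotientGroup.mk_mul, QuotientGroup.eq_one_iff]
        refine mem_center_iff.2 fun y => Subtype.ext ?_
        show (y : G) * (a * b) = a * b * y
        rw [h]
        exact mem_centralizer_singleton_iff.1 (CfsgLib.FischerUnique.closure_link_le_centralizer y.2)
      refine hab (eq_of_toImg hset hn ha hb ?_)
      have hb' : toImg D d hb * toImg D d hb = 1 := mul_self SX.cls.1 (toImg_mem hb)
      exact (eq_inv_of_mul_eq_one_left he).trans (inv_eq_of_mul_eq_one_left hb')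
    have hsub : ({1, a, b, d, a * b} : Finset G) ⊆
        (Set.toFinite ((↑) '' (θ.ker : Set ↥C) : Set G)).toFinset := by
      intro y hy
      rw [Set.Finite.mem_toFinset]
      have hyc : y ∈ closure ({a, b, d} : Set G) := by
        simp only [Finset.mem_insert, Finset.mem_singleton] at hy
        rcases hy with rfl | rfl | rfl | rfl | rfl
        · exact one_mem _
        · exact subset_closure (by simp)
        · exact subset_closure (by simp)
        · exact subset_closure (by simp)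
        · exact mul_mem (subset_closure (by simp)) (subset_closure (by simp))
      obtain ⟨hyC, hyk⟩ := hmem y hyc
      exact ⟨_, hyk, rfl⟩
    have h5 := Finset.card_le_card hsub
    rw [← Set.ncard_eq_toFinset_card _ (Set.toFinite _), Set.ncard_image_of_injective _ Subtype.val_injective,
      ← Nat.card_coe_set_eq] at h5
    have h5' : ({1, a, b, d, a * b} : Finset G).card = 5 := by
      have e1 : a * b ≠ a := fun h => hne hb.1 (mul_eq_left.1 h)
      have e2 : a * b ≠ b := fun h => hne ha.1 (mul_eq_right.1 h)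
      rw [Finset.card_insert_of_notMem, Finset.card_insert_of_notMem, Finset.card_insert_of_notMem,
        Finset.card_insert_of_notMem, Finset.card_singleton] <;>
        simp [(hne ha.1).symm, (hne hb.1).symm, (hne hd).symm, h1ab.symm, hab, ha.2.1, hb.2.1, e1.symm, e2.symm,
          habd.symm]
    have h6 : Nat.card ↥((θ.ker : Set ↥C)) = Nat.card θ.ker := rfl
    omega
  · obtain ⟨⟨hwa, hwb⟩, hwd⟩ := hw
    obtain ⟨⟨hwa', hwb'⟩, hwd'⟩ := hw'
    obtain ⟨q, hqa, hqb, hqw⟩ := SX.exists_conj_triple hd' hpair' SY (toImg_mem ha) (hlk ha hb hba)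
      (hlk ha hwd hwa) (hlk hb hwd hwb) (toImg_mem ha) (hlk ha hb hba) (hlk ha hwd' hwa') (hlk hb hwd' hwb')
    obtain ⟨⟨h, hh⟩, rfl⟩ := QuotientGroup.mk_surjective q
    exact ⟨h, mem_C3.2 ⟨mul_inv_eq_iff_eq_mul.1 (key hh ha ha hqa), mul_inv_eq_iff_eq_mul.1 (key hh hb hb hqb),
      mem_centralizer_singleton_iff.1 (CfsgLib.FischerUnique.closure_link_le_centralizer hh)⟩, key hh hwd hwd' hqw⟩
  · haveI := hsimp
    haveI := eK.symm.toEquiv.nontrivial
    exact IsSimpleGroup.isSimpleGroup_of_surjective eK.toMonoidHom eK.surjective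

end CfsgLib.FischerTriple
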